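/-
Transfer library: small facts on p-groups.
-/
import Cfsg.Agent.Transfer.Complement

namespace Cfsg.Agent.Transfer

variable {G : Type*} [Group G]

/-- A normal subgroup of order `p` of a p-group is central. -/
theorem le_center_of_card_eq_prime [Finite G] {p : ℕ} [hp : Fact p.Prime] (hG : IsPGroup p G)
    (Z : Subgroup G) [Z.Normal] (hZ : Nat.card Z = p) : Z ≤ Subgroup.center G := by
  haveI : Group.IsNilpotent (⊤ : Subgroup G) := (hG.to_subgroup ⊤).isNilpotent
  rcases eq_or_ne ⁅Z, (⊤ : Subgroup G)⁆ ⊥ with h | h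
  · have := (Subgroup.commutator_eq_bot_iff_le_centralizer).mp h
    rwa [Subgroup.coe_top, Subgroup.centralizer_univ] at this
  · exfalso
    have hle : ⁅Z, (⊤ : Subgroup G)⁆ ≤ Z := Subgroup.commutator_le_left _ _
    have heq : ⁅Z, (⊤ : Subgroup G)⁆ = Z := by
      apply Subgroup.eq_of_le_of_card_ge hle
      rcases (Nat.dvd_prime hp.out).mp (hZ ▸ Subgroup.card_dvd_of_le hle) with h1 | h1
      · exact absurd (Subgroup.card_eq_one.mp h1) h
      · rw [h1, hZ]
    have h0 := eq_bot_of_le_commutator (Q := Z) (P := ⊤) le_top heq.ge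
    exact h (by rw [heq, h0])

/-- If `conj` images agree, the elements differ by a centralizing element. -/
theorem conj_eq_conj_iff {g h x : G} : g * x * g⁻¹ = h * x * h⁻¹ ↔ (g⁻¹ * h) * x = x * (g⁻¹ * h) := by
  constructor
  · intro e
    calc (g⁻¹ * h) * x = g⁻¹ * (h * x * h⁻¹) * h := by group
      _ = x * (g⁻¹ * h) := by rw [← e]; group
  · intro e
    calc g * x * g⁻¹ = g * (x * (g⁻¹ * h)) * h⁻¹ := by group
      _ = h * x * h⁻¹ := by rw [← e]; group

end Cfsg.Agent.Transfer
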