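import Mathlib
import Cfsg.Agent.S3807
import Cfsg.Agent.S0063
import Cfsg.Agent.OddLocal.NilBasics
import Cfsg.Agent.FGS3.PGroupFrattini

/-! 2-groups of maximal class. -/

set_option autoImplicit false

namespace Cfsg.Agent.Transfer.MaxClass

open Subgroup
open scoped commutatorElement

universe u

theorem index_commutator_quotient {X : Type u} [Group X] (N : Subgroup X) [N.Normal]
    (h : N ≤ commutator X) : (commutator (X ⧸ N)).index = (commutator X).index := by
  have h1 : (commutator X).map (QuotientGroup.mk' N) = commutator (X ⧸ N) := by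
    rw [commutator_def, Subgroup.map_commutator, ← MonoidHom.range_eq_map,
      MonoidHom.range_eq_top.mpr (QuotientGroup.mk'_surjective N), ← commutator_def]
  rw [← h1, Subgroup.index_map_eq _ (QuotientGroup.mk'_surjective N) (by rw [QuotientGroup.ker_mk']; exact h)]

theorem exists_central_involution {X : Type u} [Group X] [Finite X] (hX : IsPGroup 2 X)
    (N : Subgroup X) [N.Normal] (hN : N ≠ ⊥) :
    ∃ z ∈ N, orderOf z = 2 ∧ z ∈ Subgroup.center X := by
  haveI : Fact (Nat.Prime 2) := ⟨Nat.prime_two⟩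
  haveI := hX.isNilpotent
  obtain ⟨w, hwN, hw1, hwc⟩ := Cfsg.Agent.OddLocal.exists_ne_one_mem_center_of_normal N hN
  obtain ⟨k, hk⟩ := IsPGroup.iff_orderOf.mp hX w
  rcases k with _ | k
  · exact absurd (orderOf_eq_one_iff.mp hk) hw1
  refine ⟨w ^ 2 ^ k, N.pow_mem hwN _, ?_, Subgroup.pow_mem _ hwc _⟩
  rw [orderOf_pow' _ (by positivity), hk, Nat.gcd_eq_right (pow_dvd_pow 2 (Nat.le_succ k)), pow_succ,
    Nat.mul_div_cancel_left _ (by positivity)]

theorem not_comm_of_index {X : Type u} [Group X] [Finite X] {n : ℕ} (hn : 3 ≤ n)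
    (hX : Nat.card X = 2 ^ n) (h4 : (commutator X).index = 4) : ¬ IsMulCommutative X := by
  intro h
  rw [(_root_.commutator_eq_bot_iff X).mpr h, Subgroup.index_bot, hX,
    show (4 : ℕ) = 2 ^ 2 from rfl] at h4
  have := Nat.pow_right_injective (le_refl 2) h4
  omega

/-- Taussky's theorem, with the cyclic subgroup of index 2. -/
theorem taussky : ∀ (n : ℕ) (X : Type u) [Group X] [Finite X], 3 ≤ n → Nat.card X = 2 ^ n →
    (commutator X).index = 4 →
    (∃ C : Subgroup X, IsCyclic C ∧ C.index = 2) ∧ Nat.card (Subgroup.center X) = 2 := by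
  intro n
  induction n using Nat.strong_induction_on with
  | _ n ih =>
    intro X _ _ hn hX h4
    haveI : Fact (Nat.Prime 2) := ⟨Nat.prime_two⟩
    have hP : IsPGroup 2 X := IsPGroup.of_card hX
    have hna := not_comm_of_index hn hX h4
    have hcZ : ∀ A : Subgroup X, IsMulCommutative A → A.index = 2 → Nat.card (Subgroup.center X) = 2 := by
      intro A hA hAi
      have h1 := (Cfsg.Agent.S3807.result 2 hP hna A hA hAi).1
      have h2 := (Subgroup.center X).card_mul_index
      have h3 := (commutator X).card_mul_index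
      rw [h1] at h2
      rw [h4] at h3
      have h5 : Nat.card (Subgroup.center X) * 2 * Nat.card (commutator X) =
          2 * 2 * Nat.card (commutator X) := by
        rw [mul_assoc, h2, ← h3]; ring
      exact Nat.eq_of_mul_eq_mul_right two_pos (Nat.eq_of_mul_eq_mul_right Nat.card_pos h5)
    suffices hex : ∃ C : Subgroup X, IsCyclic C ∧ C.index = 2 by
      obtain ⟨C, hC, hCi⟩ := hex
      exact ⟨⟨C, hC, hCi⟩, hcZ C ⟨⟨fun a b => (IsCyclic.commGroup (α := C)).mul_comm a b⟩⟩ hCi⟩
    rcases eq_or_lt_of_le hn with hn3 | hn4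
    · -- order 8
      subst hn3
      obtain ⟨g, hg⟩ : ∃ g : X, g * g ≠ 1 := by
        by_contra hcon
        push Not at hcon
        exact hna ⟨⟨fun a b => by
          have := hcon (a * b)
          calc a * b = a * ((a * b) * (a * b)) * b := by rw [this, mul_one]
            _ = (a * a) * (b * a) * (b * b) := by group
            _ = b * a := by rw [hcon a, hcon b, one_mul, mul_one]⟩⟩
      obtain ⟨k, hk3, hk⟩ := (Nat.dvd_prime_pow Nat.prime_two).mp (hX ▸ orderOf_dvd_natCard g)
      have hk2 : k = 2 := by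
        interval_cases k
        · exact absurd (by rw [orderOf_eq_one_iff.mp hk, one_mul]) hg
        · exact absurd (by rw [← sq, ← pow_one 2, ← hk, pow_orderOf_eq_one]) hg
        · rfl
        · exfalso
          haveI := isCyclic_of_orderOf_eq_card g (hk.trans hX.symm)
          exact hna ⟨⟨fun a b => (IsCyclic.commGroup (α := X)).mul_comm a b⟩⟩
      refine ⟨Subgroup.zpowers g, inferInstance, ?_⟩
      have := (Subgroup.zpowers g).card_mul_index
      rw [Nat.card_zpowers, hk, hk2, hX] at this
      omega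
    -- order at least 16
    have hne : commutator X ≠ ⊥ := fun h => hna ((_root_.commutator_eq_bot_iff X).mp h)
    obtain ⟨z, hzN, hz2, hzc⟩ := exists_central_involution hP (commutator X) hne
    set K := Subgroup.zpowers z with hK
    haveI hKn : K.Normal := ⟨fun w hw g => by
      rw [Subgroup.mem_center_iff.mp (Subgroup.zpowers_le.mpr hzc hw) g, mul_inv_cancel_right]
      exact hw⟩
    have hKle : K ≤ commutator X := Subgroup.zpowers_le.mpr hzN
    have hKc : Nat.card K = 2 := by rw [hK, Nat.card_zpowers, hz2]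
    have hQ : Nat.card (X ⧸ K) = 2 ^ (n - 1) := by
      have := K.card_mul_index
      rw [hKc, hX, Subgroup.index_eq_card] at this
      have e : 2 ^ n = 2 * 2 ^ (n - 1) := by rw [← pow_succ', Nat.sub_add_cancel (by omega)]
      rw [e] at this
      exact Nat.eq_of_mul_eq_mul_left two_pos this
    obtain ⟨⟨Cq, hCq, hCqi⟩, -⟩ := ih (n - 1) (by omega) (X ⧸ K) (by omega) hQ
      (by rw [index_commutator_quotient K hKle, h4])
    haveI := hCq
    set A := Cq.comap (QuotientGroup.mk' K) with hA
    have hAi : A.index = 2 := by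
      rw [hA, Subgroup.index_comap_of_surjective _ (QuotientGroup.mk'_surjective K), hCqi]
    have hAab : IsMulCommutative A :=
      ((QuotientGroup.mk' K).subgroupComap Cq).isMulCommutative_of_isCyclic_of_ker_le_center (by
        intro x hx
        have hx' : (x : X) ∈ K := (QuotientGroup.eq_one_iff _).mp (congrArg Subtype.val hx)
        exact Subgroup.mem_center_iff.mpr fun y => Subtype.ext
          (Subgroup.mem_center_iff.mp (Subgroup.zpowers_le.mpr hzc hx') y))
    have hZc := hcZ A hAab hAi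
    have hab : ∀ a ∈ A, ∀ b ∈ A, a * b = b * a := fun a ha b hb =>
      congrArg Subtype.val (hAab.is_comm.comm (⟨a, ha⟩ : A) ⟨b, hb⟩)
    have hZK : Subgroup.center X = K := by
      refine (Subgroup.eq_of_le_of_card_ge (Subgroup.zpowers_le.mpr hzc) ?_).symm
      rw [hZc, hKc]
    haveI hAn : A.Normal := Subgroup.normal_of_index_eq_two hAi
    obtain ⟨⟨aq, haq⟩, hgen⟩ := hCq.exists_generator
    obtain ⟨a, rfl⟩ := QuotientGroup.mk'_surjective K aq
    have haA : a ∈ A := haq
    have hzA : z ∈ A := by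
      show QuotientGroup.mk' K z ∈ Cq
      rw [show QuotientGroup.mk' K z = 1 from (QuotientGroup.eq_one_iff z).mpr (Subgroup.mem_zpowers z)]
      exact Cq.one_mem
    have hAgen : ∀ y ∈ A, ∃ i : ℤ, ∃ w ∈ K, y = a ^ i * w := by
      intro y hy
      obtain ⟨i, hi⟩ := Subgroup.mem_zpowers_iff.mp (hgen ⟨_, hy⟩)
      have hi' : QuotientGroup.mk' K a ^ i = QuotientGroup.mk' K y :=
        congrArg Subtype.val hi
      refine ⟨i, (a ^ i)⁻¹ * y, ?_, by rw [mul_inv_cancel_left]⟩
      rw [← QuotientGroup.eq_one_iff, ← QuotientGroup.mk'_apply, map_mul, map_inv, map_zpow, hi',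
        inv_mul_cancel]
    by_cases hza : z ∈ Subgroup.zpowers a
    · refine ⟨A, ?_, hAi⟩
      refine Subgroup.isCyclic_iff_exists_zpowers_eq_top A |>.mpr ⟨a, le_antisymm ?_ ?_⟩
      · exact Subgroup.zpowers_le.mpr haA
      · intro y hy
        obtain ⟨i, w, hw, rfl⟩ := hAgen y hy
        exact Subgroup.mul_mem _ (Subgroup.zpow_mem _ (Subgroup.mem_zpowers a) i)
          ((Subgroup.zpowers_le.mpr hza) hw)
    exfalso
    obtain ⟨x, hx⟩ : ∃ x, x ∉ A := by
      by_contra hcon
      push Not at hcon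
      rw [show A = ⊤ from eq_top_iff.mpr fun x _ => hcon x, Subgroup.index_top] at hAi
      omega
    have hxx : x * x ∈ A := Subgroup.mul_self_mem_of_index_two hAi x
    have hconj2 : ∀ y ∈ A, x * (x * y * x⁻¹) * x⁻¹ = y := by
      intro y hy
      calc x * (x * y * x⁻¹) * x⁻¹ = (x * x) * y * (x * x)⁻¹ := by group
        _ = y := by rw [hab _ hxx _ hy, mul_inv_cancel_right]
    have hψ : ∀ y ∈ A, y * (x * y * x⁻¹) ∈ K := by
      intro y hy
      rw [← hZK, Subgroup.mem_center_iff]
      intro g
      have hyA : x * y * x⁻¹ ∈ A := hAn.conj_mem y hy x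
      have hcx : x * (y * (x * y * x⁻¹)) = (y * (x * y * x⁻¹)) * x := by
        calc x * (y * (x * y * x⁻¹)) = (x * y * x⁻¹) * (x * (x * y * x⁻¹) * x⁻¹) * x := by group
          _ = (y * (x * y * x⁻¹)) * x := by rw [hconj2 y hy, hab _ hyA _ hy]
      by_cases hg : g ∈ A
      · exact hab _ hg _ (A.mul_mem hy hyA)
      · have hgx : g * x⁻¹ ∈ A := by
          rw [Subgroup.mul_mem_iff_of_index_two hAi, inv_mem_iff]
          exact iff_of_false hg hx
        calc g * (y * (x * y * x⁻¹)) = (g * x⁻¹) * (x * (y * (x * y * x⁻¹))) := by group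
          _ = ((g * x⁻¹) * (y * (x * y * x⁻¹))) * x := by rw [hcx]; group
          _ = (y * (x * y * x⁻¹)) * g := by rw [hab _ hgx _ (A.mul_mem hy hyA)]; group
    -- the commutators with `x` form a cyclic group of too small exponent
    have hfg : ∀ y ∈ A, ⁅x, y⁆ ^ 2 ^ (n - 3) = 1 := by
      intro y hy
      have h1 : ⁅x, y⁆ = (y * y)⁻¹ * (y * (x * y * x⁻¹)) := by
        rw [commutatorElement_def]
        have : x * y * x⁻¹ * y⁻¹ = y⁻¹ * (x * y * x⁻¹) :=
          hab _ (hAn.conj_mem y hy x) _ (A.inv_mem hy)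
        rw [this]; group
      rw [h1]
      have hw := hψ y hy
      have hwc : ∀ w ∈ K, w * w = 1 := fun w hw => by
        have : orderOf w ∣ 2 := hKc ▸ Subgroup.orderOf_dvd_natCard K hw
        rw [← sq]; exact orderOf_dvd_iff_pow_eq_one.mp this
      have hcomm : Commute (y * y)⁻¹ (y * (x * y * x⁻¹)) :=
        (Subgroup.mem_center_iff.mp (Subgroup.zpowers_le.mpr hzc hw) _)
      have hpow : 2 ^ (n - 3) = 2 * 2 ^ (n - 4) := by rw [← pow_succ']; congr 1; omega
      rw [hcomm.mul_pow, show (y * (x * y * x⁻¹)) ^ 2 ^ (n - 3) = 1 by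
        rw [hpow, pow_mul, sq, hwc _ hw, one_pow], mul_one, inv_pow, inv_eq_one]
      obtain ⟨i, w, hwK, rfl⟩ := hAgen y hy
      have hc : Commute (a ^ i) w := (Subgroup.mem_center_iff.mp (Subgroup.zpowers_le.mpr hzc hwK) _)
      have hord : orderOf a ∣ 2 ^ (n - 2) := by
        have hd : Subgroup.zpowers a ⊔ K = A := le_antisymm
          (sup_le (Subgroup.zpowers_le.mpr haA) (Subgroup.zpowers_le.mpr hzA)) fun u hu => by
            obtain ⟨j, v, hv, rfl⟩ := hAgen u hu
            exact Subgroup.mul_mem_sup (Subgroup.zpow_mem _ (Subgroup.mem_zpowers a) j) hv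
        have hlt : Subgroup.zpowers a < A := lt_of_le_of_ne (Subgroup.zpowers_le.mpr haA)
          fun e => hza (e.symm ▸ hzA)
        have hcardA : Nat.card A = 2 ^ (n - 1) := by
          have := A.card_mul_index
          rw [hAi, hX] at this
          have e : 2 ^ n = 2 ^ (n - 1) * 2 := by rw [← pow_succ, Nat.sub_add_cancel (by omega)]
          rw [e] at this
          exact Nat.eq_of_mul_eq_mul_right two_pos this
        obtain ⟨j, hj, hje⟩ := (Nat.dvd_prime_pow Nat.prime_two).mp
          (hcardA ▸ Subgroup.orderOf_dvd_natCard A haA)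
        rw [hje]
        refine pow_dvd_pow 2 ?_
        rcases Nat.lt_or_ge j (n - 1) with h | h
        · omega
        · exfalso
          refine hlt.ne (Subgroup.eq_of_le_of_card_ge hlt.le ?_)
          rw [hcardA, Nat.card_zpowers, hje]
          exact Nat.pow_le_pow_right two_pos h
      rw [← sq, ← pow_mul, show 2 * 2 ^ (n - 3) = 2 ^ (n - 2) by rw [← pow_succ']; congr 1; omega,
        hc.mul_pow, show (a ^ i) ^ 2 ^ (n - 2) = 1 by
          rw [← zpow_natCast, ← zpow_mul, mul_comm, zpow_mul, zpow_natCast,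
            orderOf_dvd_iff_pow_eq_one.mp hord, one_zpow],
        one_mul, show 2 ^ (n - 2) = 2 * 2 ^ (n - 3) by rw [← pow_succ']; congr 1; omega,
        pow_mul, sq, hwc w hwK, one_pow]
    -- but these commutators form the derived subgroup
    let φ : A →* X := MonoidHom.mk' (fun y => ⁅x, (y : X)⁆) (fun u v => by
      simp only [commutatorElement_def, Subgroup.coe_mul, mul_inv_rev]
      have h1 : x * (v : X) * x⁻¹ * (v : X)⁻¹ ∈ A := A.mul_mem (hAn.conj_mem _ v.2 x) (A.inv_mem v.2)
      calc x * ((u : X) * v) * x⁻¹ * ((v : X)⁻¹ * (u : X)⁻¹)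
          = x * u * x⁻¹ * ((x * v * x⁻¹ * (v : X)⁻¹) * (u : X)⁻¹) := by group
        _ = x * u * x⁻¹ * ((u : X)⁻¹ * (x * v * x⁻¹ * (v : X)⁻¹)) := by rw [hab _ h1 _ (A.inv_mem u.2)]
        _ = x * u * x⁻¹ * (u : X)⁻¹ * (x * v * x⁻¹ * (v : X)⁻¹) := by group)
    have hker : Nat.card φ.ker ≤ 2 := by
      rw [← hKc]
      refine Nat.card_le_card_of_injective (fun y => (⟨((y : A) : X), ?_⟩ : K))
        (fun u v h => Subtype.ext (Subtype.ext (congrArg (fun w : K => (w : X)) h :)))
      rw [← hZK, Subgroup.mem_center_iff]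
      intro g
      have hxy : x * ((y : A) : X) = ((y : A) : X) * x := commutatorElement_eq_one_iff_mul_comm.mp y.2
      by_cases hg : g ∈ A
      · exact hab _ hg _ (y : A).2
      · have hgx : g * x⁻¹ ∈ A := by
          rw [Subgroup.mul_mem_iff_of_index_two hAi, inv_mem_iff]
          exact iff_of_false hg hx
        calc g * ((y : A) : X) = (g * x⁻¹) * (x * ((y : A) : X)) := by group
          _ = ((g * x⁻¹) * ((y : A) : X)) * x := by rw [hxy]; group
          _ = ((y : A) : X) * g := by rw [hab _ hgx _ (y : A).2]; group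
    have hrange : φ.range ≤ Subgroup.zpowers (φ ⟨a, haA⟩) := by
      rintro _ ⟨⟨y, hy⟩, rfl⟩
      obtain ⟨i, w, hw, rfl⟩ := hAgen y hy
      have hw' : φ ⟨w, (Subgroup.zpowers_le.mpr hzA) hw⟩ = 1 :=
        commutatorElement_eq_one_iff_mul_comm.mpr (Subgroup.mem_center_iff.mp (Subgroup.zpowers_le.mpr hzc hw) x)
      have e : (⟨a ^ i * w, hy⟩ : A) = ⟨a, haA⟩ ^ i * ⟨w, (Subgroup.zpowers_le.mpr hzA) hw⟩ :=
        Subtype.ext (by simp)
      rw [e, map_mul, map_zpow, hw', mul_one]
      exact Subgroup.zpow_mem _ (Subgroup.mem_zpowers _) i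
    have h1 : Nat.card A ≤ 2 * 2 ^ (n - 3) := by
      rw [← φ.ker.card_mul_index, Subgroup.index_ker]
      refine Nat.mul_le_mul hker ((Subgroup.card_le_of_le hrange).trans ?_)
      rw [Nat.card_zpowers]
      exact Nat.le_of_dvd (by positivity) (orderOf_dvd_of_pow_eq_one (hfg a haA))
    have h2 := A.card_mul_index
    rw [hAi, hX] at h2
    have e : 2 ^ n = 8 * 2 ^ (n - 3) := by
      rw [show (8 : ℕ) = 2 ^ 3 from rfl, ← pow_add]; congr 1; omega
    have := Nat.two_pow_pos (n - 3)
    omega

theorem center_le_commutator {X : Type u} [Group X] [Finite X] {n : ℕ} (hn : 3 ≤ n)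
    (hX : Nat.card X = 2 ^ n) (hna : ¬ IsMulCommutative X)
    (hZ : Nat.card (Subgroup.center X) = 2) : Subgroup.center X ≤ commutator X := by
  haveI : Fact (Nat.Prime 2) := ⟨Nat.prime_two⟩
  obtain ⟨z, hz, hz2, hzc⟩ := exists_central_involution (IsPGroup.of_card hX) (commutator X)
    fun h => hna ((_root_.commutator_eq_bot_iff X).mp h)
  have : Subgroup.zpowers z = Subgroup.center X := Subgroup.eq_of_le_of_card_ge
    (Subgroup.zpowers_le.mpr hzc) (by rw [hZ, Nat.card_zpowers, hz2])
  exact this ▸ Subgroup.zpowers_le.mpr hz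

theorem class_of_index : ∀ (n : ℕ) (X : Type u) [Group X] [Finite X], 2 ≤ n → Nat.card X = 2 ^ n →
    (commutator X).index = 4 → Group.nilpotencyClass X = n - 1 := by
  intro n
  induction n using Nat.strong_induction_on with
  | _ n ih =>
    intro X _ _ hn hX h4
    haveI : Fact (Nat.Prime 2) := ⟨Nat.prime_two⟩
    haveI : Nontrivial X := Finite.one_lt_card_iff_nontrivial.mp (by
      rw [hX]; exact Nat.one_lt_two_pow (by omega))
    haveI := (IsPGroup.of_card hX).isNilpotent
    rcases eq_or_lt_of_le hn with h | h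
    · subst h
      letI : CommGroup X := IsPGroup.commGroupOfCardEqPrimeSq hX
      have h1 : Group.nilpotencyClass X ≤ 1 := CommGroup.nilpotencyClass_le_one
      have h2 : Group.nilpotencyClass X ≠ 0 := fun h =>
        not_subsingleton X (Group.nilpotencyClass_zero_iff_subsingleton.mp h)
      omega
    · obtain ⟨-, hZ⟩ := taussky n X h hX h4
      have hle := center_le_commutator h hX (not_comm_of_index h hX h4) hZ
      have hQ : Nat.card (X ⧸ Subgroup.center X) = 2 ^ (n - 1) := by
        have := (Subgroup.center X).card_mul_index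
        rw [hZ, hX, Subgroup.index_eq_card] at this
        have e : 2 ^ n = 2 * 2 ^ (n - 1) := by rw [← pow_succ', Nat.sub_add_cancel (by omega)]
        rw [e] at this
        exact Nat.eq_of_mul_eq_mul_left two_pos this
      have h1 := ih (n - 1) (by omega) (X ⧸ Subgroup.center X) (by omega) hQ
        (by rw [index_commutator_quotient _ hle, h4])
      rw [Group.nilpotencyClass_quotient_center] at h1
      omega

theorem index_of_class : ∀ (n : ℕ) (X : Type u) [Group X] [Finite X], 2 ≤ n → Nat.card X = 2 ^ n →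
    Group.nilpotencyClass X = n - 1 → n = 2 ∨ (commutator X).index = 4 := by
  intro n
  induction n using Nat.strong_induction_on with
  | _ n ih =>
    intro X _ _ hn hX hc
    haveI : Fact (Nat.Prime 2) := ⟨Nat.prime_two⟩
    rcases eq_or_lt_of_le hn with h | h
    · exact Or.inl h.symm
    right
    haveI := (IsPGroup.of_card hX).isNilpotent
    have hna : ¬ IsMulCommutative X := fun h' => by
      letI : CommGroup X := { mul_comm := h'.is_comm.comm }
      have : Group.nilpotencyClass X ≤ 1 := CommGroup.nilpotencyClass_le_one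
      omega
    have hcQ : Group.nilpotencyClass (X ⧸ Subgroup.center X) = n - 2 := by
      rw [Group.nilpotencyClass_quotient_center, hc]; omega
    obtain ⟨k, hk⟩ := IsPGroup.iff_card.mp ((IsPGroup.of_card hX).to_quotient (Subgroup.center X))
    have hk2 : 1 < k := by
      by_contra hk2
      apply hna
      haveI : IsCyclic (X ⧸ Subgroup.center X) := by
        rcases Nat.eq_zero_or_pos k with e | e
        · rw [e, pow_zero] at hk
          haveI := (Nat.card_eq_one_iff_unique.mp hk).1
          infer_instance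
        · rw [show k = 1 by omega, pow_one] at hk
          exact isCyclic_of_prime_card hk
      exact (QuotientGroup.mk' (Subgroup.center X)).isMulCommutative_of_isCyclic_of_ker_le_center
        (QuotientGroup.ker_mk' _).le
    have h2 := Cfsg.Agent.S0063.result 2 k hk hk2
    rw [hcQ] at h2
    have hkn : k = n - 1 := by
      have h3 : 1 < Nat.card (Subgroup.center X) := by
        haveI : Nontrivial X := Finite.one_lt_card_iff_nontrivial.mp (by
          rw [hX]; exact Nat.one_lt_two_pow (by omega))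
        haveI := (IsPGroup.of_card hX).center_nontrivial
        exact Finite.one_lt_card_iff_nontrivial.mpr inferInstance
      have h4 := (Subgroup.center X).card_mul_index
      rw [Subgroup.index_eq_card, hk, hX] at h4
      have : 2 ^ k < 2 ^ n := h4 ▸ lt_mul_of_one_lt_left (Nat.two_pow_pos k) h3
      have := (Nat.pow_lt_pow_iff_right (le_refl 2)).mp this
      omega
    have hZ : Nat.card (Subgroup.center X) = 2 := by
      have h4 := (Subgroup.center X).card_mul_index
      rw [Subgroup.index_eq_card, hk, hX, hkn] at h4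
      have e : 2 ^ n = 2 * 2 ^ (n - 1) := by rw [← pow_succ', Nat.sub_add_cancel (by omega)]
      rw [e] at h4
      exact Nat.eq_of_mul_eq_mul_right (Nat.two_pow_pos _) h4
    have hle := center_le_commutator h hX hna hZ
    rw [← index_commutator_quotient _ hle]
    rcases ih (n - 1) (by omega) (X ⧸ Subgroup.center X) (by omega) (hkn ▸ hk) (by omega) with e | e
    · haveI : IsMulCommutative (X ⧸ Subgroup.center X) :=
        IsPGroup.isMulCommutative_of_card_eq_prime_sq (p := 2) (by rw [hk, hkn, e])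
      rw [(_root_.commutator_eq_bot_iff _).mpr ‹_›, Subgroup.index_bot, hk, hkn, e]
      rfl
    · exact e

theorem quotient_center_dihedral {X : Type u} [Group X] [Finite X] {n : ℕ} (hn : 3 ≤ n)
    (hX : Nat.card X = 2 ^ n) (h4 : (commutator X).index = 4) :
    Nonempty (X ⧸ Subgroup.center X ≃* DihedralGroup (2 ^ (n - 2))) := by
  obtain ⟨⟨C, hC, hCi⟩, hZ⟩ := taussky n X hn hX h4
  haveI := hC
  haveI hCn : C.Normal := Subgroup.normal_of_index_eq_two hCi
  set Z := Subgroup.center X with hZdef
  obtain ⟨⟨a, ha⟩, hgen⟩ := hC.exists_generator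
  have hab : ∀ u ∈ C, ∀ v ∈ C, u * v = v * u := fun u hu v hv =>
    congrArg Subtype.val ((IsCyclic.commGroup (α := C)).mul_comm ⟨u, hu⟩ ⟨v, hv⟩)
  obtain ⟨x, hx⟩ : ∃ x, x ∉ C := by
    by_contra hcon
    push Not at hcon
    rw [show C = ⊤ from eq_top_iff.mpr fun x _ => hcon x, Subgroup.index_top] at hCi
    omega
  have hxx : x * x ∈ C := Subgroup.mul_self_mem_of_index_two hCi x
  have hcx : ∀ y ∈ C, x * y = y * x → y ∈ Z := by
    intro y hy hxy
    rw [hZdef, Subgroup.mem_center_iff]
    intro g
    by_cases hg : g ∈ C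
    · exact hab _ hg _ hy
    · have hgx : g * x⁻¹ ∈ C := by
        rw [Subgroup.mul_mem_iff_of_index_two hCi, inv_mem_iff]
        exact iff_of_false hg hx
      calc g * y = (g * x⁻¹) * (x * y) := by group
        _ = ((g * x⁻¹) * y) * x := by rw [hxy]; group
        _ = y * g := by rw [hab _ hgx _ hy]; group
  have haA : x * a * x⁻¹ ∈ C := hCn.conj_mem a ha x
  have hinv : a * (x * a * x⁻¹) ∈ Z := by
    refine hcx _ (C.mul_mem ha haA) ?_
    calc x * (a * (x * a * x⁻¹)) = (x * a * x⁻¹) * ((x * x) * a * (x * x)⁻¹) * x := by group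
      _ = (a * (x * a * x⁻¹)) * x := by rw [hab _ hxx _ ha, mul_inv_cancel_right, hab _ haA _ ha]
  set m := 2 ^ (n - 2) with hm
  haveI : NeZero m := ⟨by positivity⟩
  set A : X ⧸ Z := (a : X ⧸ Z) with hA
  set B : X ⧸ Z := (x : X ⧸ Z) with hB
  have hBB : B * B = 1 := by
    rw [hB, ← QuotientGroup.mk_mul, QuotientGroup.eq_one_iff]
    exact hcx _ hxx (by group)
  have hBA : B * A * B⁻¹ = A⁻¹ := by
    rw [eq_comm, inv_eq_iff_mul_eq_one, hB, hA, ← QuotientGroup.mk_inv, ← QuotientGroup.mk_mul,
      ← QuotientGroup.mk_mul, ← QuotientGroup.mk_mul, QuotientGroup.eq_one_iff]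
    exact hinv
  have hcardQ : Nat.card (X ⧸ Z) = 2 * m := by
    have h1 := Z.card_mul_index
    rw [hZ, hX, Subgroup.index_eq_card] at h1
    have e : 2 ^ n = 2 * (2 * m) := by rw [hm, ← pow_succ', ← pow_succ']; congr 1; omega
    rw [e] at h1
    exact Nat.eq_of_mul_eq_mul_left two_pos h1
  have hAm : A ^ m = 1 := by
    have hCc : Nat.card C = 2 * m := by
      have h1 := C.card_mul_index
      rw [hCi, hX] at h1
      have e : 2 ^ n = 2 * m * 2 := by rw [hm, ← pow_succ', ← pow_succ]; congr 1; omega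
      rw [e] at h1
      exact Nat.eq_of_mul_eq_mul_right two_pos h1
    rw [hA, ← QuotientGroup.mk_pow, QuotientGroup.eq_one_iff]
    refine hcx _ (C.pow_mem ha m) ?_
    have h2 : (a * (x * a * x⁻¹)) ^ m = 1 := by
      have hd : orderOf (a * (x * a * x⁻¹)) ∣ m :=
        (hZ ▸ Subgroup.orderOf_dvd_natCard Z hinv).trans (dvd_pow_self 2 (by omega))
      exact orderOf_dvd_iff_pow_eq_one.mp hd
    rw [Commute.mul_pow (hab _ ha _ haA), conj_pow] at h2
    have h3 : a ^ m * a ^ m = 1 := by
      rw [← pow_add, ← two_mul]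
      exact orderOf_dvd_iff_pow_eq_one.mp (hCc ▸ Subgroup.orderOf_dvd_natCard C ha)
    have h4 : x * a ^ m * x⁻¹ = a ^ m :=
      (eq_inv_of_mul_eq_one_right h2).trans (eq_inv_of_mul_eq_one_right h3).symm
    exact mul_inv_eq_iff_eq_mul.mp h4
  let P : ZMod m → X ⧸ Z := fun i => A ^ i.val
  have hP0 : P 0 = 1 := by simp [P]
  have hPadd : ∀ i j, P (i + j) = P i * P j := fun i j => by
    simp only [P]
    rw [← pow_add, ZMod.val_add, ← pow_eq_pow_mod _ hAm]
  have hPneg : ∀ i, P (-i) = (P i)⁻¹ := fun i => eq_inv_of_mul_eq_one_left (by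
    rw [← hPadd, neg_add_cancel, hP0])
  have hPB : ∀ i, P i * B = B * P (-i) := fun i => by
    have h : B * P i * B⁻¹ = (P i)⁻¹ := by
      simp only [P]; rw [← conj_pow, hBA, inv_pow]
    have hBi : B⁻¹ = B := inv_eq_of_mul_eq_one_right hBB
    rw [hPneg, ← h, hBi, ← mul_assoc, ← mul_assoc, hBB, one_mul]
  let f : DihedralGroup m → X ⧸ Z
    | .r i => P i
    | .sr i => B * P i
  have hf : ∀ u v, f (u * v) = f u * f v := by
    rintro (i | i) (j | j)
    · exact hPadd i j
    · show B * P (j - i) = P i * (B * P j)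
      rw [← mul_assoc, hPB, mul_assoc, ← hPadd, sub_eq_neg_add]
    · show B * P (i + j) = B * P i * P j
      rw [hPadd, mul_assoc]
    · show P (j - i) = B * P i * (B * P j)
      rw [mul_assoc B, ← mul_assoc (P i) B, hPB, mul_assoc B (P (-i)), ← mul_assoc B B, hBB, one_mul,
        ← hPadd, sub_eq_neg_add]
  let F : DihedralGroup m →* X ⧸ Z := MonoidHom.mk' f hf
  have hsurj : Function.Surjective F := by
    intro q
    obtain ⟨g, rfl⟩ := QuotientGroup.mk_surjective q
    have hpow : ∀ y ∈ C, ∃ i : ℕ, y = a ^ i := fun y hy => by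
      obtain ⟨i, hi⟩ := mem_powers_iff_mem_zpowers.mpr (hgen ⟨y, hy⟩)
      exact ⟨i, (congrArg Subtype.val hi).symm⟩
    have hPi : ∀ i : ℕ, P (i : ZMod m) = A ^ i := fun i => by
      simp only [P]; rw [ZMod.val_natCast, ← pow_eq_pow_mod _ hAm]
    by_cases hg : g ∈ C
    · obtain ⟨i, rfl⟩ := hpow g hg
      exact ⟨.r (i : ZMod m), (hPi i).trans (QuotientGroup.mk_pow _ _ _).symm⟩
    · obtain ⟨i, hi⟩ := hpow (x⁻¹ * g) (by
        rw [Subgroup.mul_mem_iff_of_index_two hCi, inv_mem_iff]; exact iff_of_false hx hg)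
      refine ⟨.sr (i : ZMod m), ?_⟩
      show B * P (i : ZMod m) = _
      rw [hPi, hA, ← QuotientGroup.mk_pow, ← hi, hB, ← QuotientGroup.mk_mul, mul_inv_cancel_left]
  have hbij : Function.Bijective F := by
    refine (Nat.bijective_iff_surjective_and_card F).mpr ⟨hsurj, ?_⟩
    rw [DihedralGroup.nat_card, hcardQ]
  exact ⟨(MulEquiv.ofBijective F hbij).symm⟩

theorem isKleinFour_iff {X : Type u} [Group X] [Finite X] {n : ℕ} (hn : 3 ≤ n)
    (hX : Nat.card X = 2 ^ n) :
    IsKleinFour (X ⧸ commutator X) ↔ (commutator X).index = 4 := by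
  constructor
  · intro h
    rw [Subgroup.index_eq_card]
    exact h.card_four
  · intro h4
    haveI : Fact (Nat.Prime 2) := ⟨Nat.prime_two⟩
    have hQ : Nat.card (X ⧸ commutator X) = 4 := by rw [← Subgroup.index_eq_card]; exact h4
    refine IsKleinFour.mk hQ ?_
    -- a cyclic abelianization would make `X` abelian
    have hP : IsPGroup 2 X := IsPGroup.of_card hX
    have hex2 : ∀ q : X ⧸ commutator X, q ^ 2 = 1 := by
      by_contra hcon
      push Not at hcon
      obtain ⟨q, hq⟩ := hcon
      obtain ⟨g, rfl⟩ := QuotientGroup.mk_surjective q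
      obtain ⟨k, hk2, hk⟩ := (Nat.dvd_prime_pow Nat.prime_two).mp
        (show orderOf (g : X ⧸ commutator X) ∣ 2 ^ 2 by rw [show (2 : ℕ) ^ 2 = 4 from rfl, ← hQ]; exact orderOf_dvd_natCard _)
      have h4' : orderOf (g : X ⧸ commutator X) = 4 := by
        interval_cases k
        · exact absurd (by rw [orderOf_eq_one_iff.mp hk, one_pow]) hq
        · exact absurd (by rw [← pow_one 2, ← hk, pow_orderOf_eq_one]) hq
        · simpa using hk
      have htop : Subgroup.zpowers g ⊔ commutator X = ⊤ := by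
        have hz : Subgroup.zpowers (g : X ⧸ commutator X) = ⊤ :=
          Subgroup.eq_top_of_card_eq _ (by rw [Nat.card_zpowers, h4', hQ])
        rw [← QuotientGroup.mk'_apply, ← MonoidHom.map_zpowers] at hz
        have := congrArg (Subgroup.comap (QuotientGroup.mk' (commutator X))) hz
        rwa [Subgroup.comap_map_eq, QuotientGroup.ker_mk', Subgroup.comap_top] at this
      refine not_comm_of_index hn hX h4 ?_
      have hfr : commutator X ≤ frattini X :=
        Cfsg.Agent.FGS3.commutator_le_frattini hP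
      have hg : Subgroup.zpowers g = ⊤ :=
        frattini_nongenerating (top_le_iff.mp (htop.symm.le.trans (sup_le_sup_left hfr _)))
      haveI : IsCyclic X := ⟨⟨g, fun y => Subgroup.mem_zpowers_iff.mp (hg ▸ Subgroup.mem_top y)⟩⟩
      exact ⟨⟨fun a b => (IsCyclic.commGroup (α := X)).mul_comm a b⟩⟩
    have hdvd : Monoid.exponent (X ⧸ commutator X) ∣ 2 := Monoid.exponent_dvd_of_forall_pow_eq_one hex2
    rcases (Nat.dvd_prime Nat.prime_two).mp hdvd with h | h
    · exfalso
      have := Monoid.exp_eq_one_iff.mp h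
      have := Nat.card_eq_one_iff_unique.mpr ⟨this, ⟨1⟩⟩
      omega
    · exact h

end Cfsg.Agent.Transfer.MaxClass
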