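import Mathlib
import Cfsg.Prelude.Def_Transfer
import Cfsg.Agent.OddLocal.NilBasics
import Cfsg.Agent.OddLocal.FixOrderP
import Cfsg.Agent.OddLocal.UniqueSubgroup
import Cfsg.Agent.FGS3.Regular
import Cfsg.Agent.S0015

/-! Normal subgroups of `p`-groups: chief steps, Alperin's lemma on maximal normal abelian subgroups. -/

set_option autoImplicit false
set_option linter.style.haveILetI false

namespace Cfsg.Agent.Transfer.PNormal

open Cfsg
open scoped commutatorElement

variable {G : Type*} [Group G] [Finite G] {p : ℕ} [hp : Fact p.Prime]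

/-- A chief step: between normal subgroups of a `p`-group there is a central element of order `p`. -/
theorem exists_central_step (hG : IsPGroup p G) {M N : Subgroup G} (hM : M.Normal) (hN : N.Normal)
    (hlt : M < N) :
    ∃ z ∈ N, z ∉ M ∧ z ^ p ∈ M ∧ (∀ g : G, z * g * z⁻¹ * g⁻¹ ∈ M) ∧
      (M ⊔ Subgroup.zpowers z).Normal ∧ Nat.card ↥(M ⊔ Subgroup.zpowers z) = Nat.card M * p := by
  haveI := hM
  haveI := hG.isNilpotent
  let π := QuotientGroup.mk' M
  haveI : (N.map π).Normal := hN.map π (QuotientGroup.mk'_surjective M)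
  obtain ⟨w, hwN, hw1, hwc⟩ := Cfsg.Agent.OddLocal.exists_ne_one_mem_center_of_normal (N.map π) (fun h => by
    rw [Subgroup.map_eq_bot_iff, QuotientGroup.ker_mk'] at h
    exact not_le_of_gt hlt h)
  obtain ⟨k, hk⟩ := IsPGroup.iff_orderOf.mp (hG.to_quotient M) w
  obtain ⟨v, hvN, hv1, hvp, hvc⟩ : ∃ v ∈ N.map π, v ≠ 1 ∧ v ^ p = 1 ∧ v ∈ Subgroup.center (G ⧸ M) := by
    rcases k with _ | k
    · rw [pow_zero, orderOf_eq_one_iff] at hk; exact absurd hk hw1
    · refine ⟨w ^ p ^ k, pow_mem hwN _, fun h => ?_, by rw [← pow_mul, ← pow_succ, ← hk, pow_orderOf_eq_one],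
        pow_mem hwc _⟩
      have := hk ▸ orderOf_dvd_of_pow_eq_one h
      exact absurd ((Nat.pow_dvd_pow_iff_le_right hp.out.one_lt).mp this) (by omega)
  obtain ⟨z, hzN, rfl⟩ := hvN
  haveI hzn : (Subgroup.zpowers (π z)).Normal := ⟨fun x hx g => by
    have h := (Subgroup.zpowers_le.mpr hvc) hx
    rw [Subgroup.mem_center_iff] at h
    rwa [h g, mul_inv_cancel_right]⟩
  have e : M ⊔ Subgroup.zpowers z = (Subgroup.zpowers (π z)).comap π := by
    rw [← MonoidHom.map_zpowers, Subgroup.comap_map_eq, QuotientGroup.ker_mk', sup_comm]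
  refine ⟨z, hzN, fun h => hv1 ((QuotientGroup.eq_one_iff z).mpr h),
    (QuotientGroup.eq_one_iff (z ^ p)).mp hvp, fun g => (QuotientGroup.eq_one_iff _).mp ?_,
    e ▸ hzn.comap π, ?_⟩
  · show π (z * g * z⁻¹ * g⁻¹) = 1
    rw [map_mul, map_mul, map_mul, map_inv, map_inv, ← Subgroup.mem_center_iff.mp hvc (π g),
      mul_inv_cancel_right, mul_inv_cancel]
  · have hle : M ≤ M ⊔ Subgroup.zpowers z := le_sup_left
    have h1 := (M.subgroupOf (M ⊔ Subgroup.zpowers z)).card_mul_index
    rw [Nat.card_congr (Subgroup.subgroupOfEquivOfLe hle).toEquiv] at h1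
    have h2 : M.relIndex (M ⊔ Subgroup.zpowers z) = Nat.card ↥((M ⊔ Subgroup.zpowers z).map π) := by
      rw [← Subgroup.relIndex_ker, QuotientGroup.ker_mk']
    rw [e, Subgroup.map_comap_eq_self_of_surjective (QuotientGroup.mk'_surjective M), Nat.card_zpowers,
      orderOf_eq_prime hvp hv1, ← e] at h2
    rw [← h1, ← h2, Subgroup.relIndex]

/-- Inside a normal subgroup of a `p`-group there are normal subgroups of every admissible order. -/
theorem exists_normal_card (hG : IsPGroup p G) {N : Subgroup G} (hN : N.Normal) :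
    ∀ k : ℕ, p ^ k ≤ Nat.card N → ∃ M : Subgroup G, M.Normal ∧ M ≤ N ∧ Nat.card M = p ^ k := by
  intro k
  induction k with
  | zero => exact fun _ => ⟨⊥, inferInstance, bot_le, by simp⟩
  | succ k ih =>
    intro hk
    have hlt : p ^ k < p ^ (k + 1) := Nat.pow_lt_pow_right hp.out.one_lt (by omega)
    obtain ⟨M, hM, hMN, hMc⟩ := ih (hlt.le.trans hk)
    obtain ⟨z, hzN, -, -, -, hn, hc⟩ := exists_central_step hG hM hN (lt_of_le_of_ne hMN fun h => by
      rw [h] at hMc; omega)
    exact ⟨_, hn, sup_le hMN (Subgroup.zpowers_le.mpr hzN), by rw [hc, hMc, pow_succ]⟩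

/-- A normal subgroup of order `p ^ k` has centralizer of index at most `p ^ (k(k-1)/2)`. -/
theorem exists_normal_index_centralizer (hG : IsPGroup p G) {N : Subgroup G} (hN : N.Normal) :
    ∀ k : ℕ, p ^ k ≤ Nat.card N → ∃ M : Subgroup G, M.Normal ∧ M ≤ N ∧ Nat.card M = p ^ k ∧
      (Subgroup.centralizer (M : Set G)).index ≤ p ^ (k * (k - 1) / 2) := by
  intro k
  induction k with
  | zero =>
    refine fun _ => ⟨⊥, inferInstance, bot_le, by simp, ?_⟩
    rw [(Subgroup.centralizer_eq_top_iff_subset).mpr (fun x hx => by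
      rw [Subgroup.coe_bot, Set.mem_singleton_iff] at hx; rw [hx]; exact one_mem _)]
    simp
  | succ k ih =>
    intro hk
    have hlt : p ^ k < p ^ (k + 1) := Nat.pow_lt_pow_right hp.out.one_lt (by omega)
    obtain ⟨M, hM, hMN, hMc, hMi⟩ := ih (hlt.le.trans hk)
    obtain ⟨z, hzN, -, -, hzg, hn, hc⟩ := exists_central_step hG hM hN (lt_of_le_of_ne hMN fun h => by
      rw [h] at hMc; omega)
    refine ⟨_, hn, sup_le hMN (Subgroup.zpowers_le.mpr hzN), by rw [hc, hMc, pow_succ], ?_⟩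
    have h1 : (Subgroup.centralizer ({z} : Set G)).index ≤ Nat.card M := by
      rw [Subgroup.index_eq_card]
      refine Nat.card_le_card_of_injective
        (Quotient.lift (fun g => (⟨z * g * z⁻¹ * g⁻¹, hzg g⟩ : M)) ?_) ?_
      · intro a b hab
        have hc' := Subgroup.mem_centralizer_iff.mp (QuotientGroup.leftRel_apply.mp hab) z rfl
        refine Subtype.ext ?_
        show z * a * z⁻¹ * a⁻¹ = z * b * z⁻¹ * b⁻¹
        symm
        calc z * b * z⁻¹ * b⁻¹ = z * a * ((a⁻¹ * b) * z⁻¹) * (a⁻¹ * b)⁻¹ * a⁻¹ := by group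
          _ = z * a * z⁻¹ * a⁻¹ := by
              rw [← ((show Commute z (a⁻¹ * b) from hc').inv_left).eq]; group
      · intro x y
        induction x using Quotient.inductionOn with
        | h a =>
          induction y using Quotient.inductionOn with
          | h b =>
            intro hab
            have hab' : z * a * z⁻¹ * a⁻¹ = z * b * z⁻¹ * b⁻¹ := congrArg Subtype.val hab
            refine Quotient.sound (QuotientGroup.leftRel_apply.mpr (Subgroup.mem_centralizer_iff.mpr ?_))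
            intro w hw
            rw [Set.mem_singleton_iff.mp hw]
            have h' : z⁻¹ * (a⁻¹ * b) = a⁻¹ * b * z⁻¹ := by
              calc z⁻¹ * (a⁻¹ * b) = a⁻¹ * z⁻¹ * (z * a * z⁻¹ * a⁻¹) * b := by group
                _ = a⁻¹ * b * z⁻¹ := by rw [hab']; group
            exact (inv_inv z) ▸ ((show Commute z⁻¹ (a⁻¹ * b) from h').inv_left).eq
    have h2 : (Subgroup.centralizer (M : Set G) ⊓ Subgroup.centralizer ({z} : Set G)) ≤
        Subgroup.centralizer ((M ⊔ Subgroup.zpowers z : Subgroup G) : Set G) := by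
      intro g hg
      refine Subgroup.le_centralizer_iff.mp ?_ (Subgroup.mem_zpowers g)
      refine sup_le ?_ (Subgroup.zpowers_le.mpr ?_)
      · exact Subgroup.le_centralizer_iff.mp (Subgroup.zpowers_le.mpr hg.1)
      · exact Subgroup.mem_centralizer_iff.mpr fun y hy => by
          obtain ⟨i, rfl⟩ := hy
          exact ((show Commute z g from Subgroup.mem_centralizer_iff.mp hg.2 z rfl).zpow_right i).symm.eq
    refine (Nat.le_of_dvd (Nat.pos_of_ne_zero Subgroup.index_ne_zero_of_finite)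
      (Subgroup.index_dvd_of_le h2)).trans ((Subgroup.index_inf_le).trans ?_)
    refine (Nat.mul_le_mul hMi (h1.trans hMc.le)).trans ?_
    rw [← pow_add]
    refine Nat.pow_le_pow_right hp.out.pos (le_of_eq ?_)
    rw [Nat.add_sub_cancel]
    rcases Nat.even_or_odd' k with ⟨j, rfl | rfl⟩
    · rw [show (2 * j + 1) * (2 * j) = 2 * ((2 * j + 1) * j) by ring, Nat.mul_div_cancel_left _ two_pos,
        show 2 * j * (2 * j - 1) = 2 * (j * (2 * j - 1)) by ring, Nat.mul_div_cancel_left _ two_pos]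
      rcases j with _ | j
      · simp
      · rw [show 2 * (j + 1) - 1 = 2 * j + 1 by omega]; ring
    · rw [show (2 * j + 1 + 1) * (2 * j + 1) = 2 * ((j + 1) * (2 * j + 1)) by ring,
        Nat.mul_div_cancel_left _ two_pos, Nat.add_sub_cancel,
        show (2 * j + 1) * (2 * j) = 2 * ((2 * j + 1) * j) by ring, Nat.mul_div_cancel_left _ two_pos]
      ring

/-- Alperin: if `A` is maximal among normal abelian subgroups of exponent dividing `p ^ n ≠ 2`, it
contains all solutions of `x ^ (p ^ n) = 1` in its centralizer. -/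
theorem mem_of_maximal_normal (hG : IsPGroup p G) {n : ℕ} (hn : p ^ n ≠ 2) {A : Subgroup G} (hAn : A.Normal)
    (hA : IsMulCommutative A) (hAe : ∀ a ∈ A, a ^ p ^ n = 1)
    (hmax : ∀ B : Subgroup G, B.Normal → IsMulCommutative B → (∀ b ∈ B, b ^ p ^ n = 1) → A ≤ B → B = A)
    {x : G} (hx : x ∈ Subgroup.centralizer (A : Set G)) (hxn : x ^ p ^ n = 1) : x ∈ A := by
  classical
  haveI := hAn
  by_contra hxA
  set q := p ^ n with hq
  haveI : (Subgroup.centralizer (A : Set G)).Normal := Subgroup.normal_centralizer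
  obtain ⟨K, hK, hKmin⟩ := (Set.toFinite {K : Subgroup G | K.Normal ∧ A ≤ K ∧
    K ≤ Subgroup.centralizer (A : Set G) ∧ ∃ y ∈ K, y ^ q = 1 ∧ y ∉ A}).exists_minimal
    ⟨Subgroup.centralizer (A : Set G), inferInstance,
      Subgroup.le_centralizer_iff_isMulCommutative.mpr hA, le_rfl, x, hx, hxn, hxA⟩
  obtain ⟨hKn, hAK, hKC, y₀, hy₀, hy₀p, hy₀A⟩ := hK
  obtain ⟨M, hM, hMmax⟩ := (Set.toFinite {M : Subgroup G | M.Normal ∧ A ≤ M ∧ M < K}).exists_maximal
    ⟨A, hAn, le_rfl, lt_of_le_of_ne hAK fun h => hy₀A (h ▸ hy₀)⟩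
  obtain ⟨hMn, hAM, hMK⟩ := hM
  haveI := hMn
  haveI := hKn
  have hMS : ∀ m ∈ M, m ^ q = 1 → m ∈ A := fun m hm hmp => by
    by_contra hmA
    exact (not_le_of_gt hMK) (hKmin ⟨hMn, hAM, hMK.le.trans hKC, m, hm, hmp, hmA⟩ hMK.le)
  obtain ⟨z, hz, hzM, hzp, hzg, hzn, -⟩ := exists_central_step hG hMn hKn hMK
  have hKz : M ⊔ Subgroup.zpowers z = K := by
    refine (eq_or_lt_of_le (sup_le hMK.le (Subgroup.zpowers_le.mpr hz))).resolve_right fun hlt => ?_
    exact hzM (hMmax ⟨hzn, hAM.trans le_sup_left, hlt⟩ le_sup_left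
      (Subgroup.mem_sup_right (Subgroup.mem_zpowers z)))
  have hdec : ∀ k ∈ K, ∃ m ∈ M, ∃ i : ℤ, k = m * z ^ i := fun k hk => by
    rw [← hKz] at hk
    obtain ⟨m, hm, w, ⟨i, hi⟩, rfl⟩ := Subgroup.mem_sup_of_normal_left.mp hk
    exact ⟨m, hm, i, by rw [← hi]⟩
  let π := QuotientGroup.mk' M
  have hzc : π z ∈ Subgroup.center (G ⧸ M) := Subgroup.mem_center_iff.mpr fun g => by
    induction g using QuotientGroup.induction_on with
    | H g =>
      have h : π (z * g * z⁻¹ * g⁻¹) = 1 := (QuotientGroup.eq_one_iff _).mpr (hzg g)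
      rw [map_mul, map_mul, map_mul, map_inv, map_inv, mul_inv_eq_one, mul_inv_eq_iff_eq_mul] at h
      exact h.symm
  have hπK : ∀ k ∈ K, π k ∈ Subgroup.center (G ⧸ M) ∧ π k ^ p = 1 := fun k hk => by
    obtain ⟨m, hm, i, rfl⟩ := hdec k hk
    rw [map_mul, show π m = 1 from (QuotientGroup.eq_one_iff m).mpr hm, one_mul, map_zpow]
    refine ⟨zpow_mem hzc i, ?_⟩
    rw [← zpow_natCast, ← zpow_mul, mul_comm, zpow_mul, zpow_natCast, ← map_pow,
      show π (z ^ p) = 1 from (QuotientGroup.eq_one_iff _).mpr hzp, one_zpow]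
  have hcomm : ∀ a ∈ A, ∀ k ∈ K, a * k = k * a := fun a ha k hk =>
    Subgroup.mem_centralizer_iff.mp (hKC hk) a ha
  have hmul : ∀ N : ℕ, ∀ a b : G, Nat.card (Subgroup.closure ({a, b} : Set G)) ≤ N → a ∈ K → b ∈ K →
      a ^ q = 1 → b ^ q = 1 → (a * b) ^ q = 1 := by
    intro N
    induction N with
    | zero => intro a b h; exact absurd h (by simp [Nat.card_pos.ne'])
    | succ N ih =>
      intro a b hN ha hb hap hbp
      by_cases hab : a * b = b * a
      · rw [(show Commute a b from hab).mul_pow, hap, hbp, one_mul]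
      set Q := Subgroup.closure ({a, b} : Set G) with hQ
      have haQ : a ∈ Q := Subgroup.subset_closure (by simp)
      have hbQ : b ∈ Q := Subgroup.subset_closure (by simp)
      have hD : ⁅Q, Q⁆ ≠ ⊥ := fun h => hab (commutatorElement_eq_one_iff_mul_comm.mp
        (Subgroup.mem_bot.mp (h ▸ Subgroup.commutator_mem_commutator haQ hbQ)))
      have hlt := FGS3.Regular.zpowers_sup_lt hG (x := a) (a := a) (b := b) haQ hD
      have hle : Subgroup.closure ({a⁻¹, b * a * b⁻¹} : Set G) ≤ Subgroup.zpowers a ⊔ ⁅Q, Q⁆ := by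
        refine (Subgroup.closure_le _).mpr ?_
        rintro w (rfl | rfl)
        · exact Subgroup.mem_sup_left (inv_mem (Subgroup.mem_zpowers a))
        · rw [show b * a * b⁻¹ = ⁅b, a⁆ * a by rw [commutatorElement_def, inv_mul_cancel_right]]
          exact mul_mem (Subgroup.mem_sup_right (Subgroup.commutator_mem_commutator hbQ haQ))
            (Subgroup.mem_sup_left (Subgroup.mem_zpowers a))
      have hsmall : Nat.card (Subgroup.closure ({a⁻¹, b * a * b⁻¹} : Set G)) ≤ N := by
        have h1 := (Subgroup.card_le_of_le hle).trans_lt (FGS3.Regular.card_lt_card hlt)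
        exact Nat.lt_succ_iff.mp (h1.trans_le hN)
      set m := a⁻¹ * (b * a * b⁻¹) with hm
      have hmp : m ^ q = 1 := ih _ _ hsmall (inv_mem ha) (hKn.conj_mem a ha b)
        (by rw [inv_pow, hap, inv_one]) (by rw [conj_pow, hap]; group)
      have hmM : m ∈ M := by
        rw [← QuotientGroup.eq_one_iff]
        show π m = 1
        rw [hm, map_mul, map_mul, map_mul, map_inv, map_inv,
          Subgroup.mem_center_iff.mp (hπK a ha).1 (π b), mul_inv_cancel_right, inv_mul_cancel]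
      have hmA := hMS m hmM hmp
      have hma : Commute m a := hcomm m hmA a ha
      have hmb : Commute m b := hcomm m hmA b hb
      have hba : b * a = m * a * b := by rw [hma.eq, hm]; group
      rw [OddLocal.pow_mul_class_two hba hma hmb, hap, hbp, one_mul, one_mul]
      rcases hp.out.eq_two_or_odd' with rfl | hodd
      · obtain ⟨k, rfl⟩ : ∃ k, n = k + 2 := by
          rcases n with _ | _ | k
          · simp only [hq, pow_zero, pow_one] at hap
            exact absurd (by rw [hap, one_mul, mul_one]) hab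
          · exact absurd (pow_one 2) hn
          · exact ⟨k, rfl⟩
        have hj : m ^ (2 ^ (k + 1)) = 1 := by
          have h2 : a ^ 2 ∈ M := (QuotientGroup.eq_one_iff _).mp
            ((map_pow π a 2).trans (hπK a ha).2)
          have hA2 : a ^ 2 ^ (k + 1) ∈ A := by
            refine hMS _ (by rw [pow_succ', pow_mul]; exact pow_mem h2 _) ?_
            rw [← pow_mul, mul_comm, pow_mul, hap, one_pow]
          have h3 : (b * a * b⁻¹) ^ 2 ^ (k + 1) = a ^ 2 ^ (k + 1) := by
            rw [conj_pow, ← hcomm _ hA2 b hb, mul_inv_cancel_right]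
          rw [hba, mul_inv_cancel_right, hma.mul_pow] at h3
          exact mul_eq_right.mp h3
        rw [hq, Nat.choose_two_right, show (2 : ℕ) ^ (k + 2) * (2 ^ (k + 2) - 1) =
          2 * (2 ^ (k + 1) * (2 ^ (k + 2) - 1)) by rw [pow_succ' 2 (k + 1)]; ring,
          Nat.mul_div_cancel_left _ two_pos, pow_mul, hj, one_pow]
      · have he : 2 ∣ q - 1 := Even.two_dvd (Nat.Odd.sub_odd (hodd.pow) odd_one)
        rw [Nat.choose_two_right, Nat.mul_div_assoc _ he, pow_mul, hmp, one_pow]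
  let T : Subgroup G :=
    { carrier := {k | k ∈ K ∧ k ^ q = 1}
      one_mem' := ⟨one_mem _, one_pow _⟩
      mul_mem' := fun {a b} ha hb => ⟨mul_mem ha.1 hb.1, hmul _ a b le_rfl ha.1 hb.1 ha.2 hb.2⟩
      inv_mem' := fun {a} ha => ⟨inv_mem ha.1, by rw [inv_pow, ha.2, inv_one]⟩ }
  have hTn : T.Normal := ⟨fun a ha g => ⟨hKn.conj_mem a ha.1 g, by rw [conj_pow, ha.2]; group⟩⟩
  have hAT : A ≤ T := fun a ha => ⟨hAK ha, hAe a ha⟩
  have hTK : T ≤ K := fun a ha => ha.1
  have hexp : ∀ k ∈ K, k ^ q = 1 := fun k hk =>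
    ((hKmin ⟨hTn, hAT, hTK.trans hKC, y₀, ⟨hy₀, hy₀p⟩, hy₀p, hy₀A⟩ hTK) hk).2
  have hMA : M = A := le_antisymm (fun m hm => hMS m hm (hexp m (hMK.le hm))) hAM
  have hKc : IsMulCommutative K := ⟨⟨fun a b => Subtype.ext (by
    obtain ⟨a', ha', i, hi⟩ := hdec a a.2
    obtain ⟨b', hb', j, hj⟩ := hdec b b.2
    rw [hMA] at ha' hb'
    show Commute (a : G) b
    rw [hi, hj]
    exact ((show Commute a' (b' * z ^ j) from hcomm a' ha' _ (hj ▸ b.2)).mul_left
      (Commute.mul_right ((show Commute b' (z ^ i) from hcomm b' hb' _ (zpow_mem hz i)).symm)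
        ((Commute.refl z).zpow_zpow i j))))⟩⟩
  exact hy₀A ((hmax K hKn hKc hexp hAK).le hy₀)

/-- For odd `p`, a non-cyclic `p`-group has a normal elementary abelian subgroup of order `p ^ 2`. -/
theorem exists_normal_ea_sq (hp2 : p ≠ 2) (hG : IsPGroup p G) (hnc : ¬ IsCyclic G) :
    ∃ A : Subgroup G, A.Normal ∧ IsElementaryAbelian p A ∧ Nat.card A = p ^ 2 := by
  obtain ⟨A, -, ⟨hAn, hA⟩, hAmax⟩ := (Set.toFinite
    {A : Subgroup G | A.Normal ∧ IsElementaryAbelian p A}).exists_le_maximal (a := ⊥)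
    ⟨inferInstance, inferInstance, fun a ha => by rw [Subgroup.mem_bot.mp ha, one_pow]⟩
  have hmem : ∀ x ∈ Subgroup.centralizer (A : Set G), x ^ p = 1 → x ∈ A := fun x hx hxp =>
    mem_of_maximal_normal hG (n := 1) (by rwa [pow_one]) hAn hA.1 (fun a ha => by rw [pow_one]; exact hA.2 a ha)
      (fun B hB hBc hBe hle => le_antisymm (hAmax ⟨hB, hBc, fun b hb => by simpa using hBe b hb⟩ hle) hle)
      hx (by rwa [pow_one])
  by_cases h2 : p ^ 2 ≤ Nat.card A
  · obtain ⟨M, hM, hMA, hMc⟩ := exists_normal_card hG hAn 2 h2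
    exact ⟨M, hM, ⟨⟨⟨fun a b => Subtype.ext (show (a : G) * b = b * a from congrArg Subtype.val
      (hA.1.is_comm.comm ⟨a, hMA a.2⟩ ⟨b, hMA b.2⟩))⟩⟩, fun a ha => hA.2 a (hMA ha)⟩, hMc⟩
  exfalso
  obtain ⟨k, hk⟩ := (hG.to_subgroup A).exists_card_eq
  have hAp : Nat.card A ≤ p := by
    rw [hk] at h2 ⊢
    have : k ≤ 1 := by
      by_contra h
      exact h2 (Nat.pow_le_pow_right hp.out.pos (by omega))
    exact (Nat.pow_le_pow_right hp.out.pos this).trans (pow_one p).le
  have hcen : A ≤ Subgroup.center G := by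
    by_cases hb : A = ⊥
    · rw [hb]; exact bot_le
    obtain ⟨z, hzA, -, -, hzg, -, hc⟩ := exists_central_step hG (M := ⊥) inferInstance hAn (bot_lt_iff_ne_bot.mpr hb)
    rw [bot_sup_eq, Subgroup.card_bot, one_mul] at hc
    rw [← Subgroup.eq_of_le_of_card_ge (Subgroup.zpowers_le.mpr hzA) (hc ▸ hAp), Subgroup.zpowers_le]
    refine Subgroup.mem_center_iff.mpr fun g => ?_
    have h := Subgroup.mem_bot.mp (hzg g)
    exact (mul_inv_eq_iff_eq_mul.mp (mul_inv_eq_one.mp h)).symm
  refine hnc (OddLocal.isCyclic_of_uniqueOrderP (Nat.card G) hG ?_ (Or.inl hp2) le_rfl)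
  intro a b ha hb ha1
  have hall : ∀ x : G, x ^ p = 1 → x ∈ A := fun x hx => hmem x (by
    rw [Subgroup.centralizer_eq_top_iff_subset.mpr hcen]; exact Subgroup.mem_top x) hx
  rw [Subgroup.eq_of_le_of_card_ge (Subgroup.zpowers_le.mpr (hall a ha))
    (by rw [Nat.card_zpowers, orderOf_eq_prime ha ha1]; exact hAp)]
  exact hall b hb

end Cfsg.Agent.Transfer.PNormal
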