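/-
Transfer library: transfer into abelian groups and central elements.
-/
import Mathlib.GroupTheory.Transfer
import Cfsg.Agent.Transfer.Basic

namespace Cfsg.Agent.Transfer

variable {G : Type*} [Group G]

/-- The transfer restricted to an element all whose powers are rigid under `ϕ`. -/
theorem transfer_apply_eq_pow {H : Subgroup G} [H.FiniteIndex] {A : Type*} [CommGroup A]
    (ϕ : H →* A) (x : H)
    (hkey : ∀ (k : ℕ) (g₀ : G) (h : g₀⁻¹ * (x : G) ^ k * g₀ ∈ H),
      ϕ ⟨_, h⟩ = ϕ x ^ k) :
    MonoidHom.transfer ϕ (x : G) = ϕ x ^ H.index := by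
  classical
  have : Fintype (Quotient (MulAction.orbitRel (Subgroup.zpowers (x : G)) (G ⧸ H))) :=
    Fintype.ofFinite _
  rw [Subgroup.index_eq_sum_minimalPeriod H (x : G), ← Finset.prod_pow_eq_pow_sum,
    MonoidHom.transfer_eq_prod_quotient_orbitRel_zpowers_quot]
  exact Finset.prod_congr rfl fun q _ => hkey _ _ _

theorem transfer_central {H : Subgroup G} [H.FiniteIndex] {A : Type*} [CommGroup A]
    (ϕ : H →* A) (x : H) (hx : (x : G) ∈ Subgroup.center G) :
    MonoidHom.transfer ϕ (x : G) = ϕ x ^ H.index := by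
  refine transfer_apply_eq_pow ϕ x fun k g₀ h => ?_
  rw [← map_pow]
  congr 1
  apply Subtype.ext
  show g₀⁻¹ * (x : G) ^ k * g₀ = ((x ^ k : H) : G)
  rw [mul_assoc, ← Subgroup.mem_center_iff.mp (pow_mem hx k) g₀, inv_mul_cancel_left]
  rfl

/-- Any homomorphism of `H` to an abelian group kills the `|G : H|`-th power of an element of
`H ⊓ Z(G) ⊓ G'`. -/
theorem pow_index_eq_one_of_mem_center {H : Subgroup G} [H.FiniteIndex] {A : Type*} [CommGroup A]
    (ϕ : H →* A) (x : H) (hx : (x : G) ∈ Subgroup.center G) (hx' : (x : G) ∈ commutator G) :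
    ϕ x ^ H.index = 1 := by
  rw [← transfer_central ϕ x hx]
  exact Abelianization.commutator_subset_ker _ hx'

/-- An element of an abelian subgroup `H` lying in `Z(G) ⊓ G'` is killed by the index. -/
theorem pow_index_eq_one_of_isMulCommutative {H : Subgroup G} [H.FiniteIndex]
    (hH : IsMulCommutative H) {x : G} (hxH : x ∈ H) (hx : x ∈ Subgroup.center G)
    (hx' : x ∈ commutator G) : x ^ H.index = 1 := by
  letI : CommGroup H := { (inferInstance : Group H) with mul_comm := fun a b => mul_comm' a b }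
  exact congrArg Subtype.val (pow_index_eq_one_of_mem_center (MonoidHom.id H) ⟨x, hxH⟩ hx hx')

end Cfsg.Agent.Transfer
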