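/-
Transfer library: Tate's theorem, via transfer in a central extension.
-/
import Mathlib.GroupTheory.Frattini
import Cfsg.Agent.Transfer.Complement
import Cfsg.Agent.Transfer.CentralTransfer
import Cfsg.Agent.FGS3.PGroupFrattini

namespace Cfsg.Agent.Transfer

open Cfsg
open scoped commutatorElement

variable {G : Type*} [Group G] [Finite G] {p : ℕ} [hp : Fact p.Prime]

/-- A homomorphism of `G` onto `Γ` lifts through a central extension `B → Γ` with p-group kernel
if it lifts on a Sylow p-subgroup. -/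
theorem exists_lift_of_sylow {B Γ : Type*} [Group B] [Finite B] [Group Γ] (P : Sylow p G)
    (θ : G →* Γ) (ψ : B →* Γ) (hψ : Function.Surjective ψ)
    (hcen : ψ.ker ≤ Subgroup.center B) (hB : IsPGroup p ψ.ker)
    (f : (P : Subgroup G) →* B) (hf : ∀ x, ψ (f x) = θ x) :
    ∃ φ : G →* B, ∀ g, ψ (φ g) = θ g := by
  let E : Subgroup (G × B) := (θ.comp (MonoidHom.fst G B)).eqLocus (ψ.comp (MonoidHom.snd G B))
  let π : E →* G := (MonoidHom.fst G B).comp E.subtype
  have hπ : Function.Surjective π := fun g => by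
    obtain ⟨u, hu⟩ := hψ (θ g)
    exact ⟨⟨(g, u), show θ g = ψ u from hu.symm⟩, rfl⟩
  let EP : Subgroup E := (P : Subgroup G).comap π
  letI : CommGroup ψ.ker :=
    { (inferInstance : Group ψ.ker) with
      mul_comm := fun a b => Subtype.ext (Subgroup.mem_center_iff.mp (hcen b.2) a) }
  have hmem : ∀ e : EP, (f ⟨π e, e.2⟩)⁻¹ * ((e : E) : G × B).2 ∈ ψ.ker := by
    intro e
    rw [MonoidHom.mem_ker, map_mul, map_inv, hf]
    show (θ ((e : E) : G × B).1)⁻¹ * ψ ((e : E) : G × B).2 = 1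
    rw [show θ ((e : E) : G × B).1 = ψ ((e : E) : G × B).2 from (e : E).2, inv_mul_cancel]
  let χ : EP →* ψ.ker := MonoidHom.mk' (fun e => ⟨_, hmem e⟩) fun a b => by
    apply Subtype.ext
    show (f ⟨π ↑(a * b), _⟩)⁻¹ * (((a * b : EP) : E) : G × B).2 = _
    have h1 : (⟨π ↑(a * b), (a * b).2⟩ : (P : Subgroup G)) = ⟨π a, a.2⟩ * ⟨π b, b.2⟩ :=
      Subtype.ext (map_mul π (a : E) b)
    rw [h1, map_mul]
    simp only [Subgroup.coe_mul, Prod.snd_mul, mul_inv_rev]
    have h2 := Subgroup.mem_center_iff.mp (hcen (hmem a)) (f ⟨π b, b.2⟩)⁻¹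
    calc (f ⟨π b, b.2⟩)⁻¹ * (f ⟨π a, a.2⟩)⁻¹ * (((a : E) : G × B).2 * ((b : E) : G × B).2)
        = (f ⟨π b, b.2⟩)⁻¹ * ((f ⟨π a, a.2⟩)⁻¹ * ((a : E) : G × B).2) * ((b : E) : G × B).2 := by
          group
      _ = (f ⟨π a, a.2⟩)⁻¹ * ((a : E) : G × B).2 * (f ⟨π b, b.2⟩)⁻¹ * ((b : E) : G × B).2 := by
          rw [h2]
      _ = _ := by group
  have hidx : ¬ p ∣ EP.index := by
    rw [Subgroup.index_comap_of_surjective _ hπ]
    exact P.not_dvd_index
  have hn : p.Coprime EP.index := hp.out.coprime_iff_not_dvd.mpr hidx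
  let V : E →* ψ.ker := MonoidHom.transfer χ
  -- the value of `V` on the kernel of `π`
  have hker : ∀ u : ψ.ker, ∀ e : E, (e : G × B) = (1, (u : B)) → V e = u ^ EP.index := by
    intro u e he
    have he1 : π e = 1 := congrArg Prod.fst he
    have heP : e ∈ EP := by
      show π e ∈ (P : Subgroup G)
      rw [he1]; exact one_mem _
    have hec : e ∈ Subgroup.center E := by
      rw [Subgroup.mem_center_iff]
      intro d
      apply Subtype.ext
      rw [Subgroup.coe_mul, Subgroup.coe_mul, he]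
      exact Prod.ext (by simp) (Subgroup.mem_center_iff.mp (hcen u.2) _)
    show MonoidHom.transfer χ ((⟨e, heP⟩ : EP) : E) = _
    rw [transfer_central χ ⟨e, heP⟩ hec]
    congr 1
    apply Subtype.ext
    show (f ⟨π e, _⟩)⁻¹ * (e : G × B).2 = _
    rw [show (⟨π e, heP⟩ : (P : Subgroup G)) = 1 from Subtype.ext he1, map_one, inv_one, one_mul, he]
  let M : Subgroup E := V.ker
  have hbij : Function.Bijective (π.comp M.subtype) := by
    constructor
    · rw [← MonoidHom.ker_eq_bot_iff, eq_bot_iff]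
      rintro ⟨e, he⟩ h1
      have h1' : (e : G × B).1 = 1 := h1
      have hu : (e : G × B).2 ∈ ψ.ker := by
        rw [MonoidHom.mem_ker, ← show θ (e : G × B).1 = ψ (e : G × B).2 from e.2, h1', map_one]
      have h2 := hker ⟨_, hu⟩ e (Prod.ext h1' rfl)
      rw [MonoidHom.mem_ker.mp he] at h2
      have h3 : (⟨_, hu⟩ : ψ.ker) = 1 := by
        apply (hB.powEquiv hn).injective
        rw [IsPGroup.powEquiv_apply, IsPGroup.powEquiv_apply, one_pow, ← h2]
      apply Subtype.ext; apply Subtype.ext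
      exact Prod.ext h1' (congrArg Subtype.val h3)
    · intro g
      obtain ⟨e, rfl⟩ := hπ g
      obtain ⟨u, hu⟩ := (hB.powEquiv hn).surjective (V e)
      rw [IsPGroup.powEquiv_apply] at hu
      have hzE : ((1 : G), (u : B)) ∈ E := by
        show θ 1 = ψ u
        rw [map_one, u.2]
      refine ⟨⟨e * ⟨_, hzE⟩⁻¹, ?_⟩, ?_⟩
      · rw [MonoidHom.mem_ker, map_mul, map_inv, hker u ⟨_, hzE⟩ rfl, hu, mul_inv_cancel]
      · show π (e * ⟨_, hzE⟩⁻¹) = π e
        rw [map_mul, map_inv, show π ⟨_, hzE⟩ = 1 from rfl, inv_one, mul_one]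
  let s := (MulEquiv.ofBijective _ hbij).symm
  refine ⟨((MonoidHom.snd G B).comp E.subtype).comp (M.subtype.comp s.toMonoidHom), fun g => ?_⟩
  have h := ((s g : M) : E).2
  show ψ (((s g : M) : E) : G × B).2 = θ g
  rw [← show θ (((s g : M) : E) : G × B).1 = ψ (((s g : M) : E) : G × B).2 from h]
  exact congrArg θ ((MulEquiv.ofBijective _ hbij).apply_symm_apply g)

/-- **Tate's theorem**, abstract form. -/
theorem tate_core (P : Sylow p G) (R : Subgroup G)
    (hRQ : R ≤ (P : Subgroup G) ⊓ pResidual p G)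
    (hRn : (P : Subgroup G) ≤ Subgroup.normalizer (R : Set G))
    (h : (P : Subgroup G) ⊓ pResidual p G ≤
      R ⊔ (frattini (P : Subgroup G)).map (P : Subgroup G).subtype) :
    (P : Subgroup G) ⊓ pResidual p G = R := by
  refine le_antisymm ?_ hRQ
  -- reduce to the central case: `R₁ = R [Q, P]`
  set Q := (P : Subgroup G) ⊓ pResidual p G with hQ
  have hRP : R ≤ (P : Subgroup G) := hRQ.trans inf_le_left
  haveI hRn' : (R.subgroupOf (P : Subgroup G)).Normal :=
    (Subgroup.normal_subgroupOf_iff_le_normalizer hRP).mpr hRn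
  haveI : Group.IsNilpotent (P : Subgroup G) := P.2.isNilpotent
  let Qp : Subgroup (P : Subgroup G) := (pResidual p G).subgroupOf (P : Subgroup G)
  let R₁ : Subgroup (P : Subgroup G) := R.subgroupOf (P : Subgroup G) ⊔ ⁅Qp, ⊤⁆
  have hR₁Q : R₁ ≤ Qp :=
    sup_le (fun x hx => (hRQ hx).2) (Subgroup.commutator_le_left _ _)
  suffices hmain : Qp ≤ R₁ by
    -- `Qp = R [Qp, P]` forces `Qp = R`
    let q := QuotientGroup.mk' (R.subgroupOf (P : Subgroup G))
    haveI : Group.IsNilpotent (⊤ : Subgroup ((P : Subgroup G) ⧸ R.subgroupOf (P : Subgroup G))) :=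
      inferInstance
    have h0 : Qp.map q = ⊥ := by
      refine eq_bot_of_le_commutator (P := ⊤) le_top ?_
      refine (Subgroup.map_mono hmain).trans ?_
      rw [Subgroup.map_sup, QuotientGroup.map_mk'_self, bot_sup_eq, Subgroup.map_commutator]
      exact Subgroup.commutator_mono le_rfl le_top
    rw [Subgroup.map_eq_bot_iff, QuotientGroup.ker_mk'] at h0
    intro x hx
    exact h0 (show (⟨x, hx.1⟩ : (P : Subgroup G)) ∈ Qp from hx.2)
  -- the central extension `P/R₁ → G/O^p(G)`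
  let θ := QuotientGroup.mk' (pResidual p G)
  let ψ : (P : Subgroup G) ⧸ R₁ →* G ⧸ pResidual p G :=
    QuotientGroup.lift R₁ (θ.comp (P : Subgroup G).subtype) (fun x hx => by
      rw [MonoidHom.mem_ker]
      exact (QuotientGroup.eq_one_iff _).mpr (hR₁Q hx))
  have hψ : Function.Surjective ψ := by
    intro y
    obtain ⟨g, rfl⟩ := QuotientGroup.mk'_surjective _ y
    obtain ⟨x, hx, k, hk, rfl⟩ := Subgroup.mem_sup_of_normal_right.mp
      ((sylow_sup_pResidual P).symm ▸ Subgroup.mem_top g :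
        g ∈ (P : Subgroup G) ⊔ pResidual p G)
    refine ⟨QuotientGroup.mk' R₁ ⟨x, hx⟩, ?_⟩
    show θ x = θ (x * k)
    rw [map_mul, show θ k = 1 from (QuotientGroup.eq_one_iff _).mpr hk, mul_one]
  have hker : ∀ y, y ∈ ψ.ker ↔ y ∈ Qp.map (QuotientGroup.mk' R₁) := by
    intro y
    obtain ⟨x, rfl⟩ := QuotientGroup.mk'_surjective _ y
    rw [MonoidHom.mem_ker]
    constructor
    · intro hx
      exact ⟨x, (QuotientGroup.eq_one_iff (x : G)).mp hx, rfl⟩
    · rintro ⟨z, hz, he⟩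
      rw [← he]
      exact (QuotientGroup.eq_one_iff _).mpr hz
  have hcen : ψ.ker ≤ Subgroup.center _ := by
    intro y hy
    obtain ⟨x, hx, rfl⟩ := (hker y).mp hy
    rw [Subgroup.mem_center_iff]
    intro z
    obtain ⟨w, rfl⟩ := QuotientGroup.mk'_surjective _ z
    rw [← map_mul, ← map_mul, QuotientGroup.mk'_apply, QuotientGroup.mk'_apply, QuotientGroup.eq]
    have : ⁅x⁻¹, w⁻¹⁆ ∈ R₁ := Subgroup.mem_sup_right
      (Subgroup.commutator_mem_commutator (inv_mem hx) (Subgroup.mem_top _))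
    rw [show (w * x)⁻¹ * (x * w) = ⁅x⁻¹, w⁻¹⁆ by rw [commutatorElement_def]; group]
    exact this
  have hB : IsPGroup p ((P : Subgroup G) ⧸ R₁) := P.2.to_quotient _
  obtain ⟨φ, hφ⟩ := exists_lift_of_sylow P θ ψ hψ hcen (hB.to_subgroup _)
    (QuotientGroup.mk' R₁) (fun x => rfl)
  -- the image of `φ` supplements `ker ψ`, hence is everything
  have hφK : pResidual p G ≤ φ.ker := pResidual_le_ker hB φ
  let S : Subgroup (P : Subgroup G) := φ.range.comap (QuotientGroup.mk' R₁)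
  have hR₁S : R₁ ≤ S := fun x hx => by
    rw [Subgroup.mem_comap, show QuotientGroup.mk' R₁ x = 1 from (QuotientGroup.eq_one_iff _).mpr hx]
    exact one_mem _
  have hSQ : S ⊔ Qp = ⊤ := by
    rw [eq_top_iff]
    intro x _
    have h1 : QuotientGroup.mk' R₁ x * (φ x)⁻¹ ∈ ψ.ker := by
      rw [MonoidHom.mem_ker, map_mul, map_inv, hφ]
      exact mul_inv_cancel _
    obtain ⟨z, hz, hze⟩ := (hker _).mp h1
    have h2 : z⁻¹ * x ∈ S := by
      rw [Subgroup.mem_comap, map_mul, map_inv, hze, mul_inv_rev, inv_inv, inv_mul_cancel_right]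
      exact ⟨_, rfl⟩
    rw [← mul_inv_cancel_left z x]
    exact Subgroup.mul_mem _ (Subgroup.mem_sup_right hz) (Subgroup.mem_sup_left h2)
  have hQS : Qp ≤ S ⊔ frattini (P : Subgroup G) := by
    intro x hx
    have hx' : (x : G) ∈ R ⊔ (frattini (P : Subgroup G)).map (P : Subgroup G).subtype := h ⟨x.2, hx⟩
    rw [← Subgroup.map_subgroupOf_eq_of_le hRP, ← Subgroup.map_sup] at hx'
    have hx'' := (Subgroup.mem_map_iff_mem (P : Subgroup G).subtype_injective).mp hx'
    exact sup_le_sup_right ((le_sup_left : R.subgroupOf (P : Subgroup G) ≤ R₁).trans hR₁S) _ hx''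
  have hS : S = ⊤ := frattini_nongenerating (top_le_iff.mp
    (hSQ ▸ sup_le le_sup_left hQS))
  intro x hx
  have hxS : x ∈ S := hS ▸ Subgroup.mem_top x
  obtain ⟨g, hg⟩ := hxS
  have hgK : g ∈ pResidual p G := by
    rw [← QuotientGroup.eq_one_iff (N := pResidual p G), show (g : G ⧸ pResidual p G) = θ g from rfl,
      ← hφ, hg]
    exact (QuotientGroup.eq_one_iff _).mpr hx
  rw [hφK hgK] at hg
  exact (QuotientGroup.eq_one_iff _).mp hg.symm

/-- **Tate**: a normal subgroup meeting `P` in `Φ(P)` has a normal p-complement. -/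
theorem hasNormalPComplement_of_inf_le_frattini (P : Sylow p G) (N : Subgroup G) [N.Normal]
    (h : N ⊓ (P : Subgroup G) ≤ (frattini (P : Subgroup G)).map (P : Subgroup G).subtype) :
    HasNormalPComplement p N := by
  let G₀ : Subgroup G := (P : Subgroup G) ⊔ N
  let P₀ : Sylow p G₀ := P.subtype le_sup_left
  suffices hG₀ : HasNormalPComplement p G₀ from hasNormalPComplement_of_le le_sup_right hG₀
  rw [← inf_pResidual_eq_bot_iff P₀]
  have hq : IsPGroup p (G₀ ⧸ N.subgroupOf G₀) := by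
    intro y
    obtain ⟨⟨g, hg⟩, rfl⟩ := QuotientGroup.mk'_surjective _ y
    obtain ⟨x, hx, k, hk, rfl⟩ := Subgroup.mem_sup_of_normal_right.mp hg
    obtain ⟨j, hj⟩ := P.2 ⟨x, hx⟩
    refine ⟨j, ?_⟩
    have hxk : QuotientGroup.mk' (N.subgroupOf G₀) ⟨x * k, hg⟩ =
        QuotientGroup.mk' (N.subgroupOf G₀) ⟨x, Subgroup.mem_sup_left hx⟩ := by
      rw [QuotientGroup.mk'_apply, QuotientGroup.mk'_apply, QuotientGroup.eq,
        Subgroup.mem_subgroupOf]
      simpa using inv_mem hk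
    rw [hxk, ← map_pow]
    have hpow : (⟨x, Subgroup.mem_sup_left hx⟩ : G₀) ^ p ^ j = 1 := by
      apply Subtype.ext
      simpa using congrArg Subtype.val hj
    rw [hpow, map_one]
  have hres : pResidual p G₀ ≤ N.subgroupOf G₀ := pResidual_le_of_isPGroup_quotient hq
  refine tate_core P₀ ⊥ bot_le (by rw [Subgroup.normalizer_eq_top_iff.mpr inferInstance]; exact le_top) ?_
  rw [bot_sup_eq]
  rintro ⟨x, hx⟩ ⟨hxP, hxK⟩
  obtain ⟨⟨y, hy⟩, hyΦ, hyx⟩ := h (x := x) ⟨hres hxK, hxP⟩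
  let e : (P : Subgroup G) ≃* (P₀ : Subgroup G₀) := (Subgroup.subgroupOfEquivOfLe le_sup_left).symm
  refine ⟨e ⟨y, hy⟩, ?_, Subtype.ext hyx⟩
  exact frattini_le_comap_frattini_of_surjective (φ := e.toMonoidHom) e.surjective hyΦ

end Cfsg.Agent.Transfer
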