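/-
Transfer library: weakly closed subgroups, Grün's theorems, control of transfer.
-/
import Mathlib.GroupTheory.Focal
import Cfsg.Agent.Transfer.Tate

namespace Cfsg.Agent.Transfer

open Cfsg
open scoped Pointwise commutatorElement

variable {G : Type*} [Group G] [Finite G] {p : ℕ} [hp : Fact p.Prime]

/-- The normalizer of a weakly closed central subgroup controls fusion. -/
theorem exists_conj_of_weaklyClosed (P : Sylow p G) {Z : Subgroup G}
    (hZ : Z ≤ Subgroup.centralizer (P : Set G)) (hW : IsWeaklyClosed Z (P : Subgroup G))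
    {x g : G} (hx : x ∈ (P : Subgroup G)) (hgx : g * x * g⁻¹ ∈ (P : Subgroup G)) :
    ∃ n ∈ Subgroup.normalizer (Z : Set G), n * x * n⁻¹ = g * x * g⁻¹ := by
  obtain ⟨hZP, hWC⟩ := hW
  set y := g * x * g⁻¹ with hy
  let C : Subgroup G := Subgroup.centralizer ({y} : Set G)
  let Z' : Subgroup G := Z.map (MulAut.conj g).toMonoidHom
  have hyC : ∀ z : G, z ∈ Z → z ∈ C := fun z hz => by
    rw [Subgroup.mem_centralizer_iff]
    rintro _ rfl
    exact Subgroup.mem_centralizer_iff.mp (hZ hz) y hgx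
  have hZ'C : Z' ≤ C := by
    rintro _ ⟨z, hz, rfl⟩
    rw [Subgroup.mem_centralizer_iff]
    rintro _ rfl
    simp only [MulEquiv.coe_toMonoidHom, MulAut.conj_apply, hy]
    calc g * x * g⁻¹ * (g * z * g⁻¹) = g * (x * z) * g⁻¹ := by group
      _ = g * z * g⁻¹ * (g * x * g⁻¹) := by
        rw [Subgroup.mem_centralizer_iff.mp (hZ hz) x hx]; group
  have hZp : IsPGroup p Z := P.2.to_le hZP
  obtain ⟨T, hT⟩ := (hZp.comap_subtype (K := C)).exists_le_sylow
  obtain ⟨c, hc⟩ := exists_map_conj_le_sylow T ((hZp.map (MulAut.conj g).toMonoidHom).comap_subtype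
    (K := C))
  obtain ⟨R, hR⟩ := (T.2.map C.subtype).exists_le_sylow
  obtain ⟨h, hh⟩ := MulAction.exists_smul_eq G R P
  have hRP : (R : Subgroup G).map (MulAut.conj h).toMonoidHom = (P : Subgroup G) := by
    rw [← hh]; rfl
  have h1 : Z.map (MulAut.conj h).toMonoidHom = Z := by
    refine hWC h (le_of_le_of_eq (Subgroup.map_mono ?_) hRP)
    intro z hz
    exact hR ⟨⟨z, hyC z hz⟩, hT hz, rfl⟩
  have h2 : Z.map (MulAut.conj (h * ((c : G) * g))).toMonoidHom = Z := by
    refine hWC _ ?_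
    rw [← map_conj_mul, ← map_conj_mul]
    refine le_of_le_of_eq (Subgroup.map_mono ?_) hRP
    rintro _ ⟨z, hz, rfl⟩
    refine hR ⟨c * ⟨z, hZ'C hz⟩ * c⁻¹, hc ⟨⟨z, hZ'C hz⟩, hz, rfl⟩, ?_⟩
    simp
  refine ⟨(c : G) * g, ?_, ?_⟩
  · rw [mem_normalizer_iff_map_conj]
    rw [← map_conj_mul h] at h2
    exact Subgroup.map_injective (MulAut.conj h).injective (h2.trans h1.symm)
  · calc (c : G) * g * x * ((c : G) * g)⁻¹ = (c : G) * y * (c : G)⁻¹ := by rw [hy]; group
      _ = y := by
        rw [← Subgroup.mem_centralizer_iff.mp c.2 y rfl, mul_inv_cancel_right]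

/-- **Grün**, for a weakly closed central subgroup. -/
theorem commutator_inf_le_of_weaklyClosed (P : Sylow p G) {Z V : Subgroup G}
    (hZ : Z ≤ Subgroup.centralizer (P : Set G)) (hW : IsWeaklyClosed Z (P : Subgroup G))
    (hV : Subgroup.normalizer (Z : Set G) ≤ V) :
    commutator G ⊓ (P : Subgroup G) ≤ ⁅V, V⁆ := by
  rw [Subgroup.commutator_inf_eq_focalSubgroup]
  refine focalSubgroup_le_of_forall fun x hx g hgx => ?_
  obtain ⟨n, hn, e⟩ := exists_conj_of_weaklyClosed P hZ hW hx hgx
  rw [← e, show x⁻¹ * (n * x * n⁻¹) = ⁅x⁻¹, n⁆ by rw [commutatorElement_def]; group]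
  refine Subgroup.commutator_mem_commutator (inv_mem (hV ?_)) (hV hn)
  rw [Subgroup.mem_normalizer_iff]
  have hc : ∀ z ∈ Z, x * z * x⁻¹ = z := fun z hz => by
    rw [Subgroup.mem_centralizer_iff.mp (hZ hz) x hx, mul_inv_cancel_right]
  intro z
  constructor
  · intro hz
    rw [hc z hz]; exact hz
  · intro hz
    have h := hc _ hz
    have h' : x * z * x⁻¹ = z := by
      have h2 := congrArg (fun t => x⁻¹ * t * x) h
      simpa [mul_assoc] using h2
    exact h' ▸ hz

/-- **Tate**: equal focal parts give equal `O^p` parts. -/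
theorem inf_pResidual_eq_of_commutator_inf_le (P : Sylow p G) {V : Subgroup G}
    (hPV : (P : Subgroup G) ≤ V) (h : commutator G ⊓ (P : Subgroup G) ≤ ⁅V, V⁆) :
    (P : Subgroup G) ⊓ pResidual p G = (P : Subgroup G) ⊓ (pResidual p V).map V.subtype := by
  let PV : Sylow p V := P.subtype hPV
  haveI hnorm : (((pResidual p V).map V.subtype).subgroupOf V).Normal := by
    rw [Subgroup.subgroupOf, Subgroup.comap_map_eq_self_of_injective V.subtype_injective]
    exact pResidual_normal
  have hn : (P : Subgroup G) ≤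
      Subgroup.normalizer (((pResidual p V).map V.subtype : Subgroup G) : Set G) :=
    hPV.trans (Subgroup.le_normalizer_of_normal_subgroupOf (Subgroup.map_subtype_le _))
  refine tate_core P _ (le_inf inf_le_left (inf_le_right.trans (pResidual_map_subtype_le V)))
    (fun g hg => ?_) ?_
  · rw [Subgroup.mem_normalizer_iff]
    intro a
    rw [Subgroup.mem_inf, Subgroup.mem_inf, ← Subgroup.mem_normalizer_iff.mp (Subgroup.le_normalizer hg) a,
      ← Subgroup.mem_normalizer_iff.mp (hn hg) a]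
  have h1 : (P : Subgroup G) ⊓ pResidual p G ≤ commutator G := by
    refine inf_pResidual_le_of_forall P fun x _ g _ _ => ?_
    rw [show x⁻¹ * (g * x * g⁻¹) = ⁅x⁻¹, g⁆ by rw [commutatorElement_def]; group]
    exact Subgroup.commutator_mem_commutator (Subgroup.mem_top _) (Subgroup.mem_top _)
  intro x hx
  have hxV : x ∈ ⁅V, V⁆ := h ⟨h1 hx, hx.1⟩
  set F := (frattini (P : Subgroup G)).map (P : Subgroup G).subtype
  -- `V' ≤ P' O^p(V)`
  have hV' : commutator V ≤ (⁅(PV : Subgroup V), (PV : Subgroup V)⁆) ⊔ pResidual p V := by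
    rw [← QuotientGroup.ker_mk' (pResidual p V), ← Subgroup.comap_map_eq, ← Subgroup.map_le_iff_le_comap,
      commutator_def, Subgroup.map_commutator, Subgroup.map_commutator]
    have htop : (PV : Subgroup V).map (QuotientGroup.mk' (pResidual p V)) =
        (⊤ : Subgroup V).map (QuotientGroup.mk' (pResidual p V)) := by
      rw [← sylow_sup_pResidual PV, Subgroup.map_sup, QuotientGroup.map_mk'_self, sup_bot_eq]
    rw [htop]
  rw [← Subgroup.map_subtype_commutator] at hxV
  obtain ⟨⟨x', hx'⟩, hmem, rfl⟩ := hxV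
  obtain ⟨a, ha, k, hk, e⟩ := Subgroup.mem_sup_of_normal_right.mp (hV' hmem)
  have haP : (a : G) ∈ (P : Subgroup G) := by
    have := Subgroup.commutator_le_self _ ha
    exact this
  have hxe : (a : G) * k = x' := congrArg Subtype.val e
  have hkP : (k : G) ∈ (P : Subgroup G) := by
    rw [show (k : G) = (a : G)⁻¹ * x' by rw [← hxe, inv_mul_cancel_left]]
    exact mul_mem (inv_mem haP) hx.1
  show (x' : G) ∈ _
  rw [← hxe]
  refine Subgroup.mul_mem _ (Subgroup.mem_sup_right ?_) (Subgroup.mem_sup_left ⟨hkP, ⟨k, hk, rfl⟩⟩)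
  refine ⟨⟨a, haP⟩, FGS3.commutator_le_frattini P.2 ?_, rfl⟩
  have h2 : (a : G) ∈ ⁅(P : Subgroup G), (P : Subgroup G)⁆ := by
    have h3 := Subgroup.mem_map_of_mem V.subtype ha
    rw [Subgroup.map_commutator, show (PV : Subgroup V).map V.subtype = (P : Subgroup G) from
      Subgroup.map_subgroupOf_eq_of_le hPV] at h3
    exact h3
  rw [← Subgroup.map_subtype_commutator] at h2
  exact (Subgroup.mem_map_iff_mem (P : Subgroup G).subtype_injective).mp (by exact h2)

end Cfsg.Agent.Transfer
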