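/-
Lie rings graded by the integers modulo n with trivial zero component: the theorems of Kreknin (solvability)
and of Kreknin and Kostrikin (nilpotency for prime n).
-/
import Mathlib

set_option autoImplicit false
set_option linter.style.haveILetI false
set_option linter.unusedSectionVars false

namespace Cfsg.Agent.Transfer.KreKos

variable {L : Type*} [LieRing L] {n : ℕ}

/-- A grading modulo `n` without zero component. -/
structure IsGr (n : ℕ) (E : ℕ → AddSubgroup L) : Prop where
  pos : 0 < n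
  zero : E 0 = ⊥
  lie : ∀ i j, i < n → j < n → ∀ x ∈ E i, ∀ y ∈ E j, ⁅x, y⁆ ∈ E ((i + j) % n)

theorem lie_closure_left {s : Set L} {T : AddSubgroup L} {y : L} (h : ∀ x ∈ s, ⁅x, y⁆ ∈ T) {x : L}
    (hx : x ∈ AddSubgroup.closure s) : ⁅x, y⁆ ∈ T := by
  induction hx using AddSubgroup.closure_induction with
  | mem u hu => exact h u hu
  | zero => rw [zero_lie]; exact T.zero_mem
  | add u v _ _ hu hv => rw [add_lie]; exact T.add_mem hu hv
  | neg u _ hu => rw [neg_lie]; exact T.neg_mem hu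

theorem lie_closure_right {s : Set L} {T : AddSubgroup L} {x : L} (h : ∀ y ∈ s, ⁅x, y⁆ ∈ T) {y : L}
    (hy : y ∈ AddSubgroup.closure s) : ⁅x, y⁆ ∈ T := by
  induction hy using AddSubgroup.closure_induction with
  | mem u hu => exact h u hu
  | zero => rw [lie_zero]; exact T.zero_mem
  | add u v _ _ hu hv => rw [lie_add]; exact T.add_mem hu hv
  | neg u _ hu => rw [lie_neg]; exact T.neg_mem hu

theorem lie_lie' (a b c : L) : ⁅⁅a, b⁆, c⁆ = ⁅a, ⁅b, c⁆⁆ - ⁅b, ⁅a, c⁆⁆ := lie_lie a b c

/-- Left-normed products of elements of degree at least `k`. -/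
inductive Gen (n : ℕ) (E : ℕ → AddSubgroup L) (k : ℕ) : ℕ → L → Prop
  | base {i : ℕ} {x : L} : k ≤ i → i < n → x ∈ E i → Gen n E k i x
  | mul {i d : ℕ} {x u : L} : Gen n E k i x → k ≤ d → d < n → u ∈ E d → Gen n E k ((i + d) % n) ⁅x, u⁆

/-- The homogeneous components of the subring generated by the components of degree at least `k`. -/
def S (n : ℕ) (E : ℕ → AddSubgroup L) (k j : ℕ) : AddSubgroup L := AddSubgroup.closure {x | Gen n E k j x}

theorem Gen.lt {E : ℕ → AddSubgroup L} {k j : ℕ} {x : L} (h : Gen n E k j x) : j < n := by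
  cases h with
  | base _ h2 _ => exact h2
  | mul _ _ h2 _ => exact Nat.mod_lt _ (by omega)

theorem Gen.mem {E : ℕ → AddSubgroup L} (hE : IsGr n E) {k j : ℕ} {x : L} (h : Gen n E k j x) : x ∈ E j := by
  induction h with
  | base _ _ h3 => exact h3
  | mul h' _ h2 h3 ih => exact hE.lie _ _ h'.lt h2 _ ih _ h3

theorem S_le {E : ℕ → AddSubgroup L} (hE : IsGr n E) (k j : ℕ) : S n E k j ≤ E j := by
  rw [S, AddSubgroup.closure_le]
  exact fun x hx => Gen.mem hE hx

theorem mem_S_base {E : ℕ → AddSubgroup L} {k i : ℕ} (hki : k ≤ i) (hin : i < n) {x : L} (hx : x ∈ E i) :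
    x ∈ S n E k i :=
  AddSubgroup.subset_closure (Gen.base hki hin hx)

theorem S_lie {E : ℕ → AddSubgroup L} {k i j : ℕ} (_hi : i < n) {x y : L} (hx : x ∈ S n E k i)
    (hy : y ∈ S n E k j) : ⁅x, y⁆ ∈ S n E k ((i + j) % n) := by
  revert hy
  intro hy
  refine lie_closure_right (T := S n E k ((i + j) % n)) ?_ hy
  clear hy y
  intro y (hy : Gen n E k j y)
  induction hy generalizing x i with
  | base h1 h2 h3 =>
    refine lie_closure_left (fun x hx => ?_) hx
    exact AddSubgroup.subset_closure (Gen.mul hx h1 h2 h3)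
  | @mul j' d y' u hy' h1 h2 h3 ih =>
    have hn : 0 < n := by omega
    have e1 : (i + (j' + d) % n) % n = ((i + j') % n + d) % n := by
      rw [Nat.add_mod_mod, Nat.mod_add_mod, Nat.add_assoc]
    have e2 : (i + (j' + d) % n) % n = ((i + d) % n + j') % n := by
      rw [Nat.add_mod_mod, Nat.mod_add_mod, Nat.add_comm j' d, Nat.add_assoc]
    have key : ⁅x, ⁅y', u⁆⁆ = ⁅⁅x, y'⁆, u⁆ - ⁅⁅x, u⁆, y'⁆ := by
      rw [leibniz_lie x y' u, ← lie_skew y' ⁅x, u⁆]
      abel
    rw [key]
    refine AddSubgroup.sub_mem _ ?_ ?_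
    · rw [e1]
      refine lie_closure_left (fun z hz => ?_) (ih _hi hx)
      exact AddSubgroup.subset_closure (Gen.mul hz h1 h2 h3)
    · rw [e2]
      refine ih (Nat.mod_lt _ hn) ?_
      refine lie_closure_left (fun z hz => ?_) hx
      exact AddSubgroup.subset_closure (Gen.mul hz h1 h2 h3)

/-- The key lemma: `[⟨L_{≥k}⟩_g, L_{k-g}]` lies in the subring generated by degrees `> k`. -/
theorem key {E : ℕ → AddSubgroup L} (hE : IsGr n E) {k : ℕ} (hk : k < n) :
    ∀ (c g : ℕ), g < k → k - g ≤ c → ∀ x ∈ S n E k g, ∀ y ∈ E (k - g), ⁅x, y⁆ ∈ S n E (k + 1) k := by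
  intro c
  induction c with
  | zero => intro g hg hc; omega
  | succ c ih =>
    intro g hg hc x hx y hy
    refine lie_closure_left (T := S n E (k + 1) k) ?_ hx
    clear hx x
    intro x (hx : Gen n E k g x)
    cases hx with
    | base h1 _ _ => omega
    | @mul g' d x' u hx' h1 h2 h3 =>
      have hg'n := hx'.lt
      have hsum : g' + d = (g' + d) % n + n := by
        rcases Nat.lt_or_ge (g' + d) n with hlt | hge
        · rw [Nat.mod_eq_of_lt hlt] at hg; omega
        · rw [Nat.mod_eq_sub_mod hge, Nat.mod_eq_of_lt (by omega)]; omega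
      have hx'E := hx'.mem hE
      generalize hgdef : (g' + d) % n = g₀ at *
      rw [lie_lie']
      refine AddSubgroup.sub_mem _ ?_ ?_
      · have huy := hE.lie d (k - g₀) h2 (by omega) u h3 y hy
        rcases Nat.lt_trichotomy (d + (k - g₀)) n with hlt | heq | hgt
        · rw [Nat.mod_eq_of_lt hlt] at huy
          have e : (g' + (d + (k - g₀))) % n = k := by
            rw [show g' + (d + (k - g₀)) = k + n by omega, Nat.add_mod_right, Nat.mod_eq_of_lt hk]
          rw [← e]
          refine S_lie hg'n ?_ ?_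
          · rw [e]; exact mem_S_base (by omega) hg'n hx'E
          · rw [e]; exact mem_S_base (by omega) hlt huy
        · rw [heq, Nat.mod_self, hE.zero, AddSubgroup.mem_bot] at huy
          rw [huy, lie_zero]; exact AddSubgroup.zero_mem _
        · rw [Nat.mod_eq_sub_mod hgt.le, Nat.mod_eq_of_lt (by omega)] at huy
          refine ih g' (by omega) (by omega) x' (AddSubgroup.subset_closure hx') _ ?_
          rwa [show k - g' = d + (k - g₀) - n by omega]
      · have hxy := hE.lie g' (k - g₀) hg'n (by omega) x' hx'E y hy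
        rcases Nat.lt_or_ge k d with hdk | hdk
        · have hlt : g' + (k - g₀) < n := by omega
          rw [Nat.mod_eq_of_lt hlt] at hxy
          have e : (d + (g' + (k - g₀))) % n = k := by
            rw [show d + (g' + (k - g₀)) = k + n by omega, Nat.add_mod_right, Nat.mod_eq_of_lt hk]
          rw [← e]
          refine S_lie h2 ?_ ?_
          · rw [e]; exact mem_S_base (by omega) h2 h3
          · rw [e]; exact mem_S_base (by omega) hlt hxy
        · rw [show g' + (k - g₀) = n by omega, Nat.mod_self, hE.zero, AddSubgroup.mem_bot] at hxy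
          rw [hxy, lie_zero]; exact AddSubgroup.zero_mem _

/-- The derived series by components. -/
def D (n : ℕ) (E : ℕ → AddSubgroup L) : ℕ → ℕ → AddSubgroup L
  | 0 => E
  | m + 1 => fun j => AddSubgroup.closure
      {x | ∃ s t, s < n ∧ t < n ∧ (s + t) % n = j ∧ ∃ a ∈ D n E m s, ∃ b ∈ D n E m t, x = ⁅a, b⁆}

theorem D_succ (E : ℕ → AddSubgroup L) (m j : ℕ) : D n E (m + 1) j = AddSubgroup.closure
    {x | ∃ s t, s < n ∧ t < n ∧ (s + t) % n = j ∧ ∃ a ∈ D n E m s, ∃ b ∈ D n E m t, x = ⁅a, b⁆} := rfl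

theorem D_add (E : ℕ → AddSubgroup L) (N : ℕ) : ∀ m, D n (D n E N) m = D n E (N + m) := by
  intro m
  induction m with
  | zero => rfl
  | succ m ih => funext j; rw [← Nat.add_assoc, D_succ, D_succ, ih]

theorem D_succ_le {E : ℕ → AddSubgroup L} (hE : IsGr n E) : ∀ m, ∀ j, j < n → D n E (m + 1) j ≤ D n E m j := by
  intro m
  induction m with
  | zero =>
    intro j _
    rw [D_succ, AddSubgroup.closure_le]
    rintro _ ⟨s, t, hs, ht, rfl, a, ha, b, hb, rfl⟩
    exact hE.lie s t hs ht a ha b hb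
  | succ m ih =>
    intro j _
    rw [D_succ E (m + 1), AddSubgroup.closure_le]
    rintro _ ⟨s, t, hs, ht, e, a, ha, b, hb, rfl⟩
    rw [D_succ]
    exact AddSubgroup.subset_closure ⟨s, t, hs, ht, e, a, ih s hs ha, b, ih t ht hb, rfl⟩

theorem D_antitone {E : ℕ → AddSubgroup L} (hE : IsGr n E) {j : ℕ} (hj : j < n) {m m' : ℕ} (h : m ≤ m') :
    D n E m' j ≤ D n E m j := by
  induction h with
  | refl => exact le_rfl
  | step _ ih => exact (D_succ_le hE _ j hj).trans ih

theorem isGr_D {E : ℕ → AddSubgroup L} (hE : IsGr n E) (N : ℕ) : IsGr n (D n E N) where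
  pos := hE.pos
  zero := le_bot_iff.mp ((D_antitone hE hE.pos (Nat.zero_le N)).trans hE.zero.le)
  lie i j hi hj x hx y hy := by
    refine D_succ_le hE N _ (Nat.mod_lt _ hE.pos) ?_
    rw [D_succ]
    exact AddSubgroup.subset_closure ⟨i, j, hi, hj, rfl, x, hx, y, hy, rfl⟩

/-- Kreknin's lemma at degree `k`, from the bound for the subring of degrees at least `k`. -/
theorem degree_step {E : ℕ → AddSubgroup L} (hE : IsGr n E) {k N : ℕ} (hk : k < n) (_hk1 : 1 ≤ k)
    (hA : ∀ j, j < n → D n E N j ≤ S n E k j) : D n E (N + 1) k ≤ S n E (k + 1) k := by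
  rw [D_succ, AddSubgroup.closure_le]
  rintro _ ⟨s, t, hs, ht, e, a, ha, b, hb, rfl⟩
  have hb' : b ∈ E t := D_antitone hE ht (Nat.zero_le N) hb
  have ha' : a ∈ E s := D_antitone hE hs (Nat.zero_le N) ha
  rcases Nat.lt_or_ge (s + t) n with hlt | hge
  · rw [Nat.mod_eq_of_lt hlt] at e
    rcases Nat.eq_or_lt_of_le (show s ≤ k by omega) with rfl | hsk
    · rw [show t = 0 by omega, hE.zero, AddSubgroup.mem_bot] at hb'
      rw [hb', lie_zero]; exact AddSubgroup.zero_mem _
    · exact key hE hk (k - s) s hsk le_rfl a (hA s hs ha) b (by rwa [show k - s = t by omega])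
  · rw [Nat.mod_eq_sub_mod hge, Nat.mod_eq_of_lt (by omega)] at e
    have e' : (s + t) % n = k := by rw [Nat.mod_eq_sub_mod hge, Nat.mod_eq_of_lt (by omega), e]
    rw [← e']
    refine S_lie hs ?_ ?_
    · rw [e']; exact mem_S_base (by omega) hs ha'
    · rw [e']; exact mem_S_base (by omega) ht hb'

/-- Kreknin's theorem in graded form. -/
theorem kreknin_aux : ∀ k, 1 ≤ k → k ≤ n → ∀ E : ℕ → AddSubgroup L, IsGr n E →
    ∀ j, j < n → D n E (2 ^ (k - 1) - 1) j ≤ S n E k j := by
  intro k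
  induction k using Nat.strong_induction_on with
  | _ k ih =>
    intro hk1 hkn E hE j hj
    obtain ⟨k', rfl⟩ : ∃ k', k = k' + 1 := ⟨k - 1, by omega⟩
    rw [Nat.add_sub_cancel]
    -- descending through the degrees
    suffices hC : ∀ (c i M : ℕ), i < n → k' + 1 - i ≤ c → 2 ^ k' - 2 ^ (i - 1) ≤ M →
        D n E M i ≤ S n E (k' + 1) i from
      hC (k' + 1) j _ hj (by omega) (Nat.sub_le_sub_left Nat.one_le_two_pow _)
    intro c
    induction c with
    | zero =>
      intro i M hi hc _ x hx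
      exact mem_S_base (by omega) hi (D_antitone hE hi (Nat.zero_le M) hx)
    | succ c ihc =>
      intro i M hi hc hM
      rcases Nat.eq_zero_or_pos i with rfl | hi0
      · refine ((D_antitone hE hi (Nat.zero_le M)).trans hE.zero.le).trans bot_le
      by_cases hik : k' < i
      · exact fun x hx => mem_S_base hik hi (D_antitone hE hi (Nat.zero_le M) hx)
      have h1 : 2 ^ i ≤ 2 ^ k' := Nat.pow_le_pow_right two_pos (by omega)
      have h2 : 2 ^ i = 2 ^ (i - 1) + 2 ^ (i - 1) := by
        rw [← two_mul, ← pow_succ', Nat.sub_add_cancel hi0]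
      have hp := Nat.one_le_two_pow (n := i - 1)
      set M' := M - 2 ^ (i - 1) with hM'
      have hMge : 2 ^ (i - 1) ≤ M := by omega
      have hE' := isGr_D hE M'
      have hstep := degree_step hE' hi hi0 (ih i (by omega) hi0 hi.le _ hE')
      rw [Nat.sub_add_cancel hp, D_add, hM', Nat.sub_add_cancel hMge] at hstep
      refine hstep.trans ?_
      rw [S, AddSubgroup.closure_le]
      intro x hx
      change Gen n (D n E M') (i + 1) i x at hx
      clear hstep
      have hgen : ∀ s, i + 1 ≤ s → s < n → D n E M' s ≤ S n E (k' + 1) s := by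
        intro s his hsn
        by_cases hsk : k' < s
        · exact fun x hx => mem_S_base hsk hsn (D_antitone hE hsn (Nat.zero_le M') hx)
        refine ihc s M' hsn (by omega) ?_
        have h3 : 2 ^ i ≤ 2 ^ (s - 1) := Nat.pow_le_pow_right two_pos (by omega)
        omega
      have : ∀ {j : ℕ} {x : L}, Gen n (D n E M') (i + 1) j x → x ∈ S n E (k' + 1) j := by
        intro j x hx
        induction hx with
        | base a b c' => exact hgen _ a b c'
        | mul hx' a b c' ihx => exact S_lie hx'.lt ihx (hgen _ a b c')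
      exact this hx

/-- Kreknin's theorem. -/
theorem kreknin {E : ℕ → AddSubgroup L} (hE : IsGr n E) {j : ℕ} (hj : j < n) :
    D n E (2 ^ (n - 1) - 1) j = ⊥ := by
  refine le_bot_iff.mp ((kreknin_aux n hE.pos le_rfl E hE j hj).trans ?_)
  rw [S, AddSubgroup.closure_le]
  intro x hx
  change Gen n E n j x at hx
  exfalso
  induction hx with
  | base a b _ => omega
  | mul _ a b _ _ => omega

/-- The lower central series by components. -/
def Γ (n : ℕ) (E : ℕ → AddSubgroup L) : ℕ → ℕ → AddSubgroup L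
  | 0 => E
  | m + 1 => fun j => AddSubgroup.closure
      {x | ∃ s t, s < n ∧ t < n ∧ (s + t) % n = j ∧ ∃ a ∈ Γ n E m s, ∃ b ∈ E t, x = ⁅a, b⁆}

theorem Γ_succ (E : ℕ → AddSubgroup L) (m j : ℕ) : Γ n E (m + 1) j = AddSubgroup.closure
    {x | ∃ s t, s < n ∧ t < n ∧ (s + t) % n = j ∧ ∃ a ∈ Γ n E m s, ∃ b ∈ E t, x = ⁅a, b⁆} := rfl

theorem Γ_le {E : ℕ → AddSubgroup L} (hE : IsGr n E) : ∀ m j, Γ n E m j ≤ E j := by
  intro m
  induction m with
  | zero => exact fun j => le_rfl
  | succ m ih =>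
    intro j
    rw [Γ_succ, AddSubgroup.closure_le]
    rintro _ ⟨s, t, hs, ht, rfl, a, ha, b, hb, rfl⟩
    exact hE.lie s t hs ht a (ih s ha) b hb

theorem Γ_lie_gen {E : ℕ → AddSubgroup L} {m i d : ℕ} (hi : i < n) (hd : d < n) {x u : L}
    (hx : x ∈ Γ n E m i) (hu : u ∈ E d) : ⁅x, u⁆ ∈ Γ n E (m + 1) ((i + d) % n) := by
  rw [Γ_succ]
  exact AddSubgroup.subset_closure ⟨i, d, hi, hd, rfl, x, hx, u, hu, rfl⟩

theorem Γ_lie {E : ℕ → AddSubgroup L} :
    ∀ b a i j, i < n → j < n → ∀ x ∈ Γ n E a i, ∀ y ∈ Γ n E b j, ⁅x, y⁆ ∈ Γ n E (a + b + 1) ((i + j) % n) := by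
  intro b
  induction b with
  | zero => exact fun a i j hi hj x hx y hy => Γ_lie_gen hi hj hx hy
  | succ b ih =>
    intro a i j hi hj x hx y hy
    rw [Γ_succ] at hy
    refine lie_closure_right ?_ hy
    rintro _ ⟨s, t, hs, ht, rfl, u, hu, v, hv, rfl⟩
    have hn : 0 < n := by omega
    rw [show ⁅x, ⁅u, v⁆⁆ = ⁅⁅x, u⁆, v⁆ - ⁅⁅x, v⁆, u⁆ by rw [leibniz_lie x u v, ← lie_skew u ⁅x, v⁆]; abel]
    refine AddSubgroup.sub_mem _ ?_ ?_
    · have h1 := Γ_lie_gen (Nat.mod_lt _ hn) ht (ih a i s hi hs x hx u hu) hv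
      rwa [show a + b + 1 + 1 = a + (b + 1) + 1 by ring, show ((i + s) % n + t) % n = (i + (s + t) % n) % n by
        rw [Nat.add_mod_mod, Nat.mod_add_mod, Nat.add_assoc]] at h1
    · have h1 := ih (a + 1) ((i + t) % n) s (Nat.mod_lt _ hn) hs _ (Γ_lie_gen hi ht hx hv) u hu
      rwa [show a + 1 + b + 1 = a + (b + 1) + 1 by ring, show ((i + t) % n + s) % n = (i + (s + t) % n) % n by
        rw [Nat.add_mod_mod, Nat.mod_add_mod, Nat.add_comm s t, Nat.add_assoc]] at h1

theorem Γ_succ_le {E : ℕ → AddSubgroup L} (hE : IsGr n E) : ∀ m j, Γ n E (m + 1) j ≤ Γ n E m j := by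
  intro m
  induction m with
  | zero => exact fun j => Γ_le hE 1 j
  | succ m ih =>
    intro j
    rw [Γ_succ E (m + 1), Γ_succ E m, AddSubgroup.closure_le]
    rintro _ ⟨s, t, hs, ht, e, a, ha, b, hb, rfl⟩
    exact AddSubgroup.subset_closure ⟨s, t, hs, ht, e, a, ih s ha, b, hb, rfl⟩

theorem Γ_antitone {E : ℕ → AddSubgroup L} (hE : IsGr n E) {m m' : ℕ} (h : m ≤ m') (j : ℕ) :
    Γ n E m' j ≤ Γ n E m j := by
  induction h with
  | refl => exact le_rfl
  | step _ ih => exact (Γ_succ_le hE _ j).trans ih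

/-- A graded ideal. -/
def IsIdeal (n : ℕ) (E I : ℕ → AddSubgroup L) : Prop :=
  ∀ i d, i < n → d < n → ∀ x ∈ I i, ∀ u ∈ E d, ⁅x, u⁆ ∈ I ((i + d) % n)

theorem isIdeal_D {E : ℕ → AddSubgroup L} (hE : IsGr n E) : ∀ m, IsIdeal n E (D n E m) := by
  intro m
  induction m with
  | zero => exact fun i d hi hd x hx u hu => hE.lie i d hi hd x hx u hu
  | succ m ih =>
    intro i d hi hd x hx u hu
    rw [D_succ] at hx
    refine lie_closure_left ?_ hx
    rintro _ ⟨s, t, hs, ht, rfl, a, ha, b, hb, rfl⟩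
    rw [lie_lie' a b u, D_succ]
    refine AddSubgroup.sub_mem _ ?_ ?_
    · exact AddSubgroup.subset_closure ⟨s, (t + d) % n, hs, Nat.mod_lt _ hE.pos, by
        rw [Nat.add_mod_mod, Nat.mod_add_mod, Nat.add_assoc], a, ha, _, ih t d ht hd b hb u hu, rfl⟩
    · exact AddSubgroup.subset_closure ⟨t, (s + d) % n, ht, Nat.mod_lt _ hE.pos, by
        rw [Nat.add_mod_mod, Nat.mod_add_mod, Nat.add_comm s t, Nat.add_assoc], b, hb, _, ih s d hs hd a ha u hu, rfl⟩

/-- Partial sums of enough nonzero residues cover everything. -/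
theorem exists_perm_sum {p : ℕ} [hp : Fact p.Prime] :
    ∀ (l : List ℕ), (∀ x ∈ l, (x : ZMod p) ≠ 0) → ∀ T : Finset (ZMod p),
      (∀ r, r ∈ T ↔ ∃ s t : List ℕ, l.Perm (s ++ t) ∧ (s.sum : ZMod p) = r) → min p (l.length + 1) ≤ T.card := by
  classical
  intro l
  induction l with
  | nil =>
    intro _ T hT
    have h1 : (0 : ZMod p) ∈ T := (hT 0).mpr ⟨[], [], List.Perm.refl _, by simp⟩
    exact (min_le_right _ _).trans (Finset.card_pos.mpr ⟨0, h1⟩)
  | cons x l ih =>
    intro hne T hT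
    let T₀ : Finset (ZMod p) := Finset.univ.filter fun r => ∃ s t : List ℕ, l.Perm (s ++ t) ∧ (s.sum : ZMod p) = r
    have h0 := ih (fun y hy => hne y (List.mem_cons_of_mem x hy)) T₀ (fun r => by simp [T₀])
    have hsub : T₀ ⊆ T := fun r hr => by
      obtain ⟨s, t, hp', hs⟩ := (Finset.mem_filter.mp hr).2
      refine (hT r).mpr ⟨s, x :: t, ?_, hs⟩
      exact (hp'.cons x).trans List.perm_middle.symm
    have hshift : ∀ r ∈ T₀, r + (x : ZMod p) ∈ T := fun r hr => by
      obtain ⟨s, t, hp', hs⟩ := (Finset.mem_filter.mp hr).2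
      refine (hT _).mpr ⟨x :: s, t, hp'.cons x, ?_⟩
      rw [List.sum_cons, Nat.cast_add, hs, add_comm]
    rw [List.length_cons]
    by_cases hclosed : ∀ r ∈ T₀, r + (x : ZMod p) ∈ T₀
    · have hx : (x : ZMod p) ≠ 0 := hne x (List.mem_cons_self)
      have h1 : (0 : ZMod p) ∈ T₀ := Finset.mem_filter.mpr ⟨Finset.mem_univ _, [], l, List.Perm.refl _, by simp⟩
      have hall : ∀ m : ℕ, (m : ZMod p) * x ∈ T₀ := by
        intro m
        induction m with
        | zero => simpa using h1
        | succ m ihm => rw [Nat.cast_succ, add_mul, one_mul]; exact hclosed _ ihm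
      have huniv : T = Finset.univ := Finset.eq_univ_of_forall fun r => hsub (by
        have := hall (r * (x : ZMod p)⁻¹).val
        rwa [ZMod.natCast_zmod_val, mul_assoc, inv_mul_cancel₀ hx, mul_one] at this)
      rw [huniv, Finset.card_univ, ZMod.card]
      exact min_le_left _ _
    · push Not at hclosed
      obtain ⟨r, hr, hr'⟩ := hclosed
      have : T₀.card < T.card := Finset.card_lt_card
        ⟨hsub, fun h => hr' (h (hshift r hr))⟩
      omega

/-- The bound of Kreknin and Kostrikin. -/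
def ξ (p : ℕ) (s : ℕ) : ℕ := (Finset.range s).sum fun i => (p - 1) ^ i

theorem ξ_succ (p s : ℕ) : ξ p (s + 1) = (p - 1) * ξ p s + 1 := by
  rw [ξ, ξ, Finset.sum_range_succ', Finset.mul_sum, pow_zero]
  congr 1
  exact Finset.sum_congr rfl fun i _ => pow_succ' _ _

/-- A step: products of total weight more than `(p-2) f` acting on an abelian section vanish. -/
theorem acting_bound {p : ℕ} [hp : Fact p.Prime] {E M I : ℕ → AddSubgroup L} (hE : IsGr p E)
    (hM : IsIdeal p E M) (hME : ∀ j, M j ≤ E j) (hI : IsIdeal p E I) {f : ℕ}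
    (hΓM : ∀ j, j < p → Γ p E f j ≤ M j)
    (hMM : ∀ i j, i < p → j < p → ∀ x ∈ M i, ∀ y ∈ M j, ⁅x, y⁆ ∈ I ((i + j) % p)) :
    ∀ (r : ℕ) (l : List (ℕ × ℕ × L)), l.length ≤ r → (∀ z ∈ l, z.2.1 < p ∧ z.2.2 ∈ Γ p E z.1 z.2.1) →
      (p - 2) * f < (l.map fun z => z.1 + 1).sum → ∀ e, e < p → ∀ m ∈ M e,
        l.foldl (fun acc z => ⁅acc, z.2.2⁆) m ∈ I ((e + (l.map fun z => z.2.1).sum) % p) := by
  classical
  have hfoldI : ∀ (l : List (ℕ × ℕ × L)), (∀ z ∈ l, z.2.1 < p ∧ z.2.2 ∈ Γ p E z.1 z.2.1) → ∀ e, e < p → ∀ m ∈ I e,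
      l.foldl (fun acc z => ⁅acc, z.2.2⁆) m ∈ I ((e + (l.map fun z => z.2.1).sum) % p) := by
    intro l
    induction l with
    | nil => intro _ e he m hm; simpa [Nat.mod_eq_of_lt he] using hm
    | cons z l ih =>
      intro hl e he m hm
      have hz := hl z List.mem_cons_self
      have := ih (fun w hw => hl w (List.mem_cons_of_mem z hw)) _ (Nat.mod_lt _ hE.pos) _
        (hI e z.2.1 he hz.1 m hm _ (Γ_le hE _ _ hz.2))
      simpa [Nat.add_assoc] using this
  have hfoldM : ∀ (l : List (ℕ × ℕ × L)), (∀ z ∈ l, z.2.1 < p ∧ z.2.2 ∈ Γ p E z.1 z.2.1) → ∀ e, e < p → ∀ m ∈ M e,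
      l.foldl (fun acc z => ⁅acc, z.2.2⁆) m ∈ M ((e + (l.map fun z => z.2.1).sum) % p) := by
    intro l
    induction l with
    | nil => intro _ e he m hm; simpa [Nat.mod_eq_of_lt he] using hm
    | cons z l ih =>
      intro hl e he m hm
      have hz := hl z List.mem_cons_self
      have := ih (fun w hw => hl w (List.mem_cons_of_mem z hw)) _ (Nat.mod_lt _ hE.pos) _
        (hM e z.2.1 he hz.1 m hm _ (Γ_le hE _ _ hz.2))
      simpa [Nat.add_assoc] using this
  have hsub : ∀ (l : List (ℕ × ℕ × L)) (x y : L), l.foldl (fun acc z => ⁅acc, z.2.2⁆) (x - y) =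
      l.foldl (fun acc z => ⁅acc, z.2.2⁆) x - l.foldl (fun acc z => ⁅acc, z.2.2⁆) y := by
    intro l
    induction l with
    | nil => intro x y; rfl
    | cons z l ih => intro x y; simp only [List.foldl_cons, sub_lie]; exact ih _ _
  have hzero : ∀ (l : List (ℕ × ℕ × L)), l.foldl (fun acc z => ⁅acc, z.2.2⁆) (0 : L) = 0 := by
    intro l
    induction l with
    | nil => rfl
    | cons z l ih => simp only [List.foldl_cons, zero_lie]; exact ih
  intro r
  induction r with
  | zero =>
    intro l hl _ hW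
    rw [List.length_eq_zero_iff.mp (Nat.le_zero.mp hl)] at hW
    simp at hW
  | succ r ih =>
    intro l hl hmem hW e he m hm
    -- a deep factor
    by_cases hbig : ∃ z ∈ l, f ≤ z.1
    · obtain ⟨z, hz, hzf⟩ := hbig
      obtain ⟨l₁, l₂, rfl⟩ := List.append_of_mem hz
      have hmem1 : ∀ w ∈ l₁, w.2.1 < p ∧ w.2.2 ∈ Γ p E w.1 w.2.1 := fun w hw => hmem w (by simp [hw])
      have hz' := hmem z (by simp)
      have h1 := hMM _ _ (Nat.mod_lt _ hE.pos) hz'.1 _ (hfoldM l₁ hmem1 e he m hm) _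
        (hΓM _ hz'.1 (Γ_antitone hE hzf _ hz'.2))
      have h2 := hfoldI l₂ (fun w hw => hmem w (by simp [hw])) _ (Nat.mod_lt _ hE.pos) _ h1
      rw [List.foldl_append, List.foldl_cons]
      simpa [Nat.add_assoc] using h2
    push Not at hbig
    have hlen : p - 1 ≤ l.length := by
      have hle : (l.map fun z => z.1 + 1).sum ≤ l.length * f := by
        have h := List.sum_le_card_nsmul (l.map fun z => z.1 + 1) f (by
          intro x hx
          obtain ⟨z, hz, rfl⟩ := List.mem_map.mp hx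
          exact hbig z hz)
        simpa using h
      by_contra hc
      have h2 : l.length * f ≤ (p - 2) * f := Nat.mul_le_mul_right f (by omega)
      omega
    -- invariance under permutations
    have hperm : ∀ l₀ l' : List (ℕ × ℕ × L), l₀.Perm l' → ∀ pre : List (ℕ × ℕ × L),
        (pre ++ l₀).Perm l →
        (pre ++ l₀).foldl (fun acc z => ⁅acc, z.2.2⁆) m - (pre ++ l').foldl (fun acc z => ⁅acc, z.2.2⁆) m ∈
          I ((e + (l.map fun z => z.2.1).sum) % p) := by
      intro l₀ l' hp'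
      induction hp' with
      | nil => intro pre _; rw [sub_self]; exact AddSubgroup.zero_mem _
      | @cons x l₁ l₂ _ ih' =>
        intro pre hpre
        have := ih' (pre ++ [x]) (by simpa using hpre)
        simpa using this
      | swap x y l₁ =>
        intro pre hpre
        have hmem' : ∀ w ∈ pre ++ y :: x :: l₁, w.2.1 < p ∧ w.2.2 ∈ Γ p E w.1 w.2.1 :=
          fun w hw => hmem w (hpre.subset hw)
        have hx := hmem' x (by simp)
        have hy := hmem' y (by simp)
        let z : ℕ × ℕ × L := (y.1 + x.1 + 1, (y.2.1 + x.2.1) % p, ⁅y.2.2, x.2.2⁆)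
        have hW' := (hpre.map fun z => z.1 + 1).sum_eq
        have hS' := (hpre.map fun z => z.2.1).sum_eq
        have hmerge := ih (pre ++ z :: l₁) (by
            have := hpre.length_eq
            simp at this ⊢
            omega)
          (fun w hw => by
            rcases List.mem_append.mp hw with hw | hw
            · exact hmem' w (by simp [hw])
            · rcases List.mem_cons.mp hw with rfl | hw
              · exact ⟨Nat.mod_lt _ hE.pos, Γ_lie _ _ _ _ hy.1 hx.1 _ hy.2 _ hx.2⟩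
              · exact hmem' w (by simp [hw]))
          (by
            rw [← hW'] at hW
            simp only [List.map_append, List.map_cons, List.sum_append, List.sum_cons, z] at hW ⊢
            omega) e he m hm
        simp only [List.foldl_append, List.foldl_cons, ← hsub]
        generalize hacc : List.foldl (fun acc z => ⁅acc, z.2.2⁆) m pre = acc at *
        simp only [List.foldl_append, List.foldl_cons, z, hacc] at hmerge
        rw [show ⁅⁅acc, y.2.2⁆, x.2.2⁆ - ⁅⁅acc, x.2.2⁆, y.2.2⁆ = ⁅acc, ⁅y.2.2, x.2.2⁆⁆ by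
          rw [leibniz_lie acc y.2.2 x.2.2, ← lie_skew y.2.2 ⁅acc, x.2.2⁆]; abel]
        rw [← hS']
        have heq : (e + (List.map (fun z => z.2.1) (pre ++ y :: x :: l₁)).sum) % p =
            (e + (List.map (fun z => z.2.1)
              (pre ++ (y.1 + x.1 + 1, (y.2.1 + x.2.1) % p, ⁅y.2.2, x.2.2⁆) :: l₁)).sum) % p := by
          simp only [List.map_append, List.map_cons, List.sum_append, List.sum_cons]
          generalize (List.map (fun z => z.2.1) pre).sum = sa
          generalize (List.map (fun z => z.2.1) l₁).sum = sb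
          rw [show e + (sa + ((y.2.1 + x.2.1) % p + sb)) = (e + sa + sb) + (y.2.1 + x.2.1) % p by ring,
            Nat.add_mod_mod]
          congr 1
          ring
        rw [heq]
        exact hmerge
      | @trans l₁ l₂ l₃ h₁ _ ih₁ ih₂ =>
        intro pre hpre
        have := AddSubgroup.add_mem _ (ih₁ pre hpre) (ih₂ pre ((List.Perm.append_left pre h₁).symm.trans hpre))
        rwa [sub_add_sub_cancel] at this
    -- find an arrangement passing through degree zero
    by_cases hz0 : ∃ z ∈ l, z.2.1 = 0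
    · obtain ⟨z, hz, hz0⟩ := hz0
      obtain ⟨l₁, l₂, rfl⟩ := List.append_of_mem hz
      have h0 : z.2.2 = 0 := by
        have h := Γ_le hE _ _ (hmem z hz).2
        rwa [hz0, hE.zero, AddSubgroup.mem_bot] at h
      rw [List.foldl_append, List.foldl_cons, h0, lie_zero, hzero]
      exact AddSubgroup.zero_mem _
    push Not at hz0
    have hnz : ∀ x : ℕ, x ∈ l.map (fun z : ℕ × ℕ × L => z.2.1) → (x : ZMod p) ≠ 0 := by
      intro x hx h0
      obtain ⟨z, hz, rfl⟩ := List.mem_map.mp hx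
      rw [ZMod.natCast_eq_zero_iff] at h0
      exact hz0 z hz (Nat.eq_zero_of_dvd_of_lt h0 (hmem z hz).1)
    let T : Finset (ZMod p) := Finset.univ.filter fun r => ∃ s t : List ℕ,
      (l.map fun z => z.2.1).Perm (s ++ t) ∧ (s.sum : ZMod p) = r
    have hT := exists_perm_sum _ hnz T (fun r => by simp [T])
    rw [List.length_map] at hT
    have hTu : T = Finset.univ := Finset.eq_univ_of_card T (le_antisymm (Finset.card_le_univ T) (by
      rw [ZMod.card]
      have := hp.out.two_le
      omega))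
    obtain ⟨s, t, hst, hs⟩ := (Finset.mem_filter.mp (hTu ▸ Finset.mem_univ (-(e : ZMod p)) : -(e : ZMod p) ∈ T)).2
    obtain ⟨l', hl'p, hl'⟩ : ∃ l' : List (ℕ × ℕ × L), l'.Perm l ∧ l'.map (fun z => z.2.1) = s ++ t := by
      have key : ∀ (ks : List ℕ) (l : List (ℕ × ℕ × L)), (l.map fun z => z.2.1).Perm ks →
          ∃ l' : List (ℕ × ℕ × L), l'.Perm l ∧ l'.map (fun z => z.2.1) = ks := by
        intro ks
        induction ks with
        | nil => intro l h; exact ⟨[], by simpa using (List.map_eq_nil_iff.mp h.eq_nil).symm, rfl⟩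
        | cons k ks ihk =>
          intro l h
          obtain ⟨z, hz, rfl⟩ := List.mem_map.mp (h.symm.subset List.mem_cons_self)
          obtain ⟨l₁, l₂, rfl⟩ := List.append_of_mem hz
          have h1 : ((z :: (l₁ ++ l₂)).map fun z => z.2.1).Perm (z.2.1 :: ks) :=
            ((List.perm_middle.symm).map _).trans h
          obtain ⟨l', hp', he'⟩ := ihk (l₁ ++ l₂) (by rw [List.map_cons] at h1; exact h1.cons_inv)
          exact ⟨z :: l', (hp'.cons z).trans List.perm_middle.symm, by simp [he']⟩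
      exact key _ _ hst
    have h1 := hperm l l' hl'p.symm [] (by simp)
    rw [List.nil_append, List.nil_append] at h1
    obtain ⟨u, v, rfl, hu, hv⟩ := List.map_eq_append_iff.mp hl'
    have hzero' : (u ++ v).foldl (fun acc z => ⁅acc, z.2.2⁆) m = 0 := by
      have h2 := hfoldM u (fun w hw => hmem w (hl'p.subset (by simp [hw]))) e he m hm
      have hdeg : (e + (u.map fun z => z.2.1).sum) % p = 0 := by
        rw [hu, ← ZMod.val_natCast, Nat.cast_add, hs, add_neg_cancel, ZMod.val_zero]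
      have hacc : u.foldl (fun acc z => ⁅acc, z.2.2⁆) m = 0 := by
        rw [hdeg] at h2
        have h3 := hME 0 h2
        rwa [hE.zero, AddSubgroup.mem_bot] at h3
      rw [List.foldl_append, hacc, hzero]
    rw [hzero', sub_zero] at h1
    exact h1

/-- Kostrikin's step iterated: solvable of length `s` implies nilpotent of class at most `ξ s`. -/
theorem nilpotent_of_solvable {p : ℕ} [hp : Fact p.Prime] {E : ℕ → AddSubgroup L} (hE : IsGr p E) :
    ∀ (s : ℕ) (I : ℕ → AddSubgroup L), (∀ j, I j ≤ E j) → IsIdeal p E I →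
      (∀ j, j < p → D p E s j ≤ I j) → ∀ j, j < p → Γ p E (ξ p s) j ≤ I j := by
  intro s
  induction s with
  | zero => intro I _ _ hD j hj; exact hD j hj
  | succ s ih =>
    intro I hIE hI hD
    classical
    set f := ξ p s with hf
    let M : ℕ → AddSubgroup L := fun j => (D p E s j ⊓ E j) ⊔ I j
    have hME : ∀ j, M j ≤ E j := fun j => sup_le inf_le_right (hIE j)
    have hMI : IsIdeal p E M := by
      intro i d hi hd x hx u hu
      obtain ⟨a, ha, b, hb, rfl⟩ := AddSubgroup.mem_sup.mp hx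
      rw [add_lie]
      exact AddSubgroup.add_mem _ (AddSubgroup.mem_sup_left ⟨isIdeal_D hE s i d hi hd a ha.1 u hu,
        hE.lie i d hi hd a ha.2 u hu⟩) (AddSubgroup.mem_sup_right (hI i d hi hd b hb u hu))
    have hΓM := ih M hME hMI fun j hj x hx =>
      AddSubgroup.mem_sup_left ⟨hx, D_antitone hE hj (Nat.zero_le s) hx⟩
    have hMM : ∀ i j, i < p → j < p → ∀ x ∈ M i, ∀ y ∈ M j, ⁅x, y⁆ ∈ I ((i + j) % p) := by
      intro i j hi hj x hx y hy
      obtain ⟨a, ha, b, hb, rfl⟩ := AddSubgroup.mem_sup.mp hx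
      obtain ⟨c, hc, d, hd, rfl⟩ := AddSubgroup.mem_sup.mp hy
      rw [add_lie, lie_add, lie_add]
      have h1 : ⁅a, c⁆ ∈ I ((i + j) % p) := hD _ (Nat.mod_lt _ hE.pos) (by
        rw [D_succ]
        exact AddSubgroup.subset_closure ⟨i, j, hi, hj, rfl, a, ha.1, c, hc.1, rfl⟩)
      have h2 : ∀ b' ∈ I i, ∀ c' ∈ E j, ⁅b', c'⁆ ∈ I ((i + j) % p) := fun b' hb' c' hc' => hI i j hi hj b' hb' c' hc'
      have h3 : ⁅a, d⁆ ∈ I ((i + j) % p) := by
        rw [← lie_skew, Nat.add_comm i j]
        exact AddSubgroup.neg_mem _ (hI j i hj hi d hd a ha.2)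
      exact AddSubgroup.add_mem _ (AddSubgroup.add_mem _ h1 h3)
        (AddSubgroup.add_mem _ (h2 b hb c hc.2) (h2 b hb d (hIE j hd)))
    have key : ∀ (k : ℕ) (l : List (ℕ × ℕ × L)), (∀ z ∈ l, z.2.1 < p ∧ z.2.2 ∈ Γ p E z.1 z.2.1) →
        (p - 2) * f < k + (l.map fun z => z.1 + 1).sum → ∀ e, e < p → ∀ x ∈ Γ p E (f + k) e,
          l.foldl (fun acc z => ⁅acc, z.2.2⁆) x ∈ I ((e + (l.map fun z => z.2.1).sum) % p) := by
      intro k
      induction k with
      | zero =>
        intro l hl hW e he x hx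
        exact acting_bound hE hMI hME hI hΓM hMM l.length l le_rfl hl (by rwa [Nat.zero_add] at hW) e he x
          (hΓM e he hx)
      | succ k ihk =>
        intro l hl hW e he x hx
        rw [← Nat.add_assoc, Γ_succ] at hx
        let F : L →+ L := AddMonoidHom.mk' (fun x => l.foldl (fun acc z => ⁅acc, z.2.2⁆) x) (by
          clear hl hW hx
          induction l with
          | nil => intro a b; rfl
          | cons z l ihl => intro a b; simp only [List.foldl_cons, add_lie]; exact ihl _ _)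
        show F x ∈ I ((e + (l.map fun z => z.2.1).sum) % p)
        refine (AddSubgroup.closure_le (K := (I ((e + (l.map fun z => z.2.1).sum) % p)).comap F)).mpr ?_ hx
        rintro _ ⟨s', t, hs', ht, rfl, a, ha, b, hb, rfl⟩
        have := ihk ((0, t, b) :: l) (fun z hz => by
            rcases List.mem_cons.mp hz with rfl | hz
            · exact ⟨ht, hb⟩
            · exact hl z hz)
          (by simp only [List.map_cons, List.sum_cons]; omega) s' hs' a ha
        simp only [List.map_cons, List.sum_cons, List.foldl_cons] at this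
        show l.foldl (fun acc z => ⁅acc, z.2.2⁆) ⁅a, b⁆ ∈ I ((((s' + t) % p) + (l.map fun z => z.2.1).sum) % p)
        rwa [Nat.mod_add_mod, Nat.add_assoc]
    intro j hj x hx
    have hp2 := hp.out.two_le
    have hξ : ξ p (s + 1) = f + ((p - 2) * f + 1) := by
      rw [ξ_succ, ← hf, show p - 1 = (p - 2) + 1 by omega, Nat.add_mul, Nat.one_mul]
      omega
    rw [hξ] at hx
    have := key _ [] (by simp) (by simp) j hj x hx
    simpa [Nat.mod_eq_of_lt hj] using this

/-- Higman–Kreknin–Kostrikin in graded form. -/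
theorem class_bound {p : ℕ} [hp : Fact p.Prime] {E : ℕ → AddSubgroup L} (hE : IsGr p E) {j : ℕ} (hj : j < p) :
    Γ p E (ξ p (2 ^ (p - 1) - 1)) j = ⊥ :=
  le_bot_iff.mp (nilpotent_of_solvable hE _ (fun _ => (⊥ : AddSubgroup L)) (fun _ => bot_le)
    (fun i d _ _ x hx u _ => by rw [AddSubgroup.mem_bot] at hx ⊢; rw [hx, zero_lie])
    (fun j hj => (kreknin hE hj).le) j hj)

theorem class_two {E : ℕ → AddSubgroup L} (hE : IsGr 2 E) {j : ℕ} (_hj : j < 2) : Γ 2 E 1 j = ⊥ := by
  rw [eq_bot_iff, Γ_succ, AddSubgroup.closure_le]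
  rintro _ ⟨s, t, hs, ht, e, a, ha, b, hb, rfl⟩
  show ⁅a, b⁆ ∈ (⊥ : AddSubgroup L)
  have h0 : ∀ z ∈ E 0, z = (0 : L) := fun z hz => by rwa [hE.zero, AddSubgroup.mem_bot] at hz
  rw [AddSubgroup.mem_bot]
  interval_cases s <;> interval_cases t
  · rw [h0 a ha, zero_lie]
  · rw [h0 a ha, zero_lie]
  · rw [h0 b hb, lie_zero]
  · exact h0 _ (hE.lie 1 1 hs ht a ha b hb)

theorem class_three {E : ℕ → AddSubgroup L} (hE : IsGr 3 E) {j : ℕ} (_hj : j < 3) : Γ 3 E 2 j = ⊥ := by
  rw [eq_bot_iff, Γ_succ, AddSubgroup.closure_le]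
  rintro _ ⟨s, t, hs, ht, -, a, ha, c, hc, rfl⟩
  show ⁅a, c⁆ ∈ (⊥ : AddSubgroup L)
  rw [Γ_succ] at ha
  refine lie_closure_left ?_ ha
  rintro _ ⟨u, v, hu, hv, rfl, x, hx, y, hy, rfl⟩
  change x ∈ E u at hx
  rw [AddSubgroup.mem_bot]
  have h0 : ∀ z ∈ E 0, z = (0 : L) := fun z hz => by rwa [hE.zero, AddSubgroup.mem_bot] at hz
  have hlast := hE.lie _ _ hs ht _ (hE.lie u v hu hv x hx y hy) c hc
  have hz : ∀ i k (x' z' : L), i < 3 → k < 3 → (i + k) % 3 = 0 → x' ∈ E i → z' ∈ E k → ⁅x', z'⁆ = (0 : L) :=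
    fun i k x' z' hi hk e hx' hz' => h0 _ (e ▸ hE.lie i k hi hk x' hx' z' hz')
  by_cases e0 : ((u + v) % 3 + t) % 3 = 0
  · exact h0 _ (e0 ▸ hlast)
  by_cases hu0 : u = 0
  · rw [h0 x (hu0 ▸ hx), zero_lie, zero_lie]
  by_cases hv0 : v = 0
  · rw [h0 y (hv0 ▸ hy), lie_zero, zero_lie]
  by_cases ht0 : t = 0
  · rw [h0 c (ht0 ▸ hc), lie_zero]
  by_cases huv : u + v = 3
  · rw [hz u v x y hu hv (by omega) hx hy, zero_lie]
  rw [lie_lie', hz v t y c hv ht (by omega) hy hc, hz u t x c hu ht (by omega) hx hc, lie_zero, lie_zero, sub_zero]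

end Cfsg.Agent.Transfer.KreKos
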