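/-
The Lie ring of the lower central series, and the class bound for groups with a fixed-point-free automorphism
of prime order.
-/
import Cfsg.Agent.Transfer.KreKos
import Cfsg.Agent.FGS3.PolySeq
import Cfsg.Agent.Core.ThompsonFPF

set_option autoImplicit false
set_option linter.style.haveILetI false
set_option linter.unusedSectionVars false
set_option maxSynthPendingDepth 4

namespace Cfsg.Agent.Transfer.LCSLie

open scoped DirectSum commutatorElement TensorProduct

universe u

variable (G : Type u) [Group G]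

/-- The lower central series. -/
abbrev γ (i : ℕ) : Subgroup G := (⊤ : Subgroup G).lowerCentralSeries i

theorem comm_mem {i j : ℕ} {x y : G} (hx : x ∈ γ G i) (hy : y ∈ γ G j) : ⁅x, y⁆ ∈ γ G (i + j + 1) :=
  FGS3.PolySeq.commutator_lcs_le j i (Subgroup.commutator_mem_commutator hx hy)

/-- The factors. -/
def GrM (i : ℕ) : Type u := γ G i ⧸ (γ G (i + 1)).subgroupOf (γ G i)

instance (i : ℕ) : Group (GrM G i) := inferInstanceAs (Group (γ G i ⧸ (γ G (i + 1)).subgroupOf (γ G i)))

/-- The class of an element in a factor. -/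
def mkG (i : ℕ) : γ G i →* GrM G i := QuotientGroup.mk' ((γ G (i + 1)).subgroupOf (γ G i))

theorem mkG_surjective (i : ℕ) : Function.Surjective (mkG G i) := QuotientGroup.mk'_surjective _

theorem mkG_eq_one {i : ℕ} {x : γ G i} : mkG G i x = 1 ↔ (x : G) ∈ γ G (i + 1) :=
  QuotientGroup.eq_one_iff x

instance (i : ℕ) : CommGroup (GrM G i) :=
  { (inferInstance : Group (GrM G i)) with
    mul_comm := fun X Y => by
      obtain ⟨x, rfl⟩ := mkG_surjective G i X
      obtain ⟨y, rfl⟩ := mkG_surjective G i Y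
      rw [← commutatorElement_eq_one_iff_mul_comm, ← map_commutatorElement, mkG_eq_one]
      exact Subgroup.lowerCentralSeries_antitone _ (by omega) (comm_mem G x.2 y.2) }

theorem mkG_conj {i : ℕ} (g : G) (x : γ G i) (h : g * x * g⁻¹ ∈ γ G i) :
    mkG G i ⟨g * x * g⁻¹, h⟩ = mkG G i x := by
  rw [← mul_inv_eq_one, ← map_inv, ← map_mul, mkG_eq_one]
  show g * x * g⁻¹ * (x : G)⁻¹ ∈ γ G (i + 1)
  rw [show g * (x : G) * g⁻¹ * (x : G)⁻¹ = ⁅g, (x : G)⁆ by rw [commutatorElement_def]]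
  exact Subgroup.lowerCentralSeries_antitone _ (by omega) (comm_mem (i := 0) G (Subgroup.mem_top g) x.2)

/-- Commutation with a fixed element. -/
def adHom (i j : ℕ) (x : γ G i) : γ G j →* GrM G (i + j + 1) :=
  MonoidHom.mk' (fun y => mkG G _ ⟨⁅(x : G), (y : G)⁆, comm_mem G x.2 y.2⟩) fun y z => by
    have h := Subgroup.Normal.conj_mem inferInstance _ (comm_mem G x.2 z.2) (y : G)
    conv_rhs => rw [← mkG_conj G (y : G) ⟨⁅(x : G), (z : G)⁆, comm_mem G x.2 z.2⟩ h, ← map_mul]
    refine congrArg (mkG G _) (Subtype.ext ?_)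
    show ⁅(x : G), (y : G) * z⁆ = ⁅(x : G), (y : G)⁆ * ((y : G) * ⁅(x : G), (z : G)⁆ * (y : G)⁻¹)
    simp only [commutatorElement_def]; group

/-- Commutation with a fixed element, on a factor. -/
def adQ (i j : ℕ) (x : γ G i) : GrM G j →* GrM G (i + j + 1) :=
  QuotientGroup.lift _ (adHom G i j x) fun y hy => by
    refine mkG_eq_one (G := G) |>.mpr ?_
    exact Subgroup.lowerCentralSeries_antitone _ (by omega) (comm_mem G x.2 (show (y : G) ∈ γ G (j + 1) from hy))

theorem adQ_mk (i j : ℕ) (x : γ G i) (y : γ G j) :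
    adQ G i j x (mkG G j y) = mkG G (i + j + 1) ⟨⁅(x : G), (y : G)⁆, comm_mem G x.2 y.2⟩ := rfl

/-- The bracket of two factors. -/
def brHom (i j : ℕ) : GrM G i →* GrM G j →* GrM G (i + j + 1) :=
  QuotientGroup.lift _ (MonoidHom.mk' (adQ G i j) fun x x' => by
    refine MonoidHom.ext fun Y => ?_
    obtain ⟨y, rfl⟩ := mkG_surjective G j Y
    rw [MonoidHom.mul_apply, adQ_mk, adQ_mk, adQ_mk, mul_comm]
    have h := Subgroup.Normal.conj_mem inferInstance _ (comm_mem G x'.2 y.2) (x : G)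
    conv_rhs => rw [← mkG_conj G (x : G) ⟨⁅(x' : G), (y : G)⁆, comm_mem G x'.2 y.2⟩ h, ← map_mul]
    refine congrArg (mkG G _) (Subtype.ext ?_)
    show ⁅(x : G) * x', (y : G)⁆ = ((x : G) * ⁅(x' : G), (y : G)⁆ * (x : G)⁻¹) * ⁅(x : G), (y : G)⁆
    simp only [commutatorElement_def]; group)
    fun x hx => MonoidHom.ext fun Y => by
      obtain ⟨y, rfl⟩ := mkG_surjective G j Y
      refine (mkG_eq_one (G := G) (x := ⟨⁅(x : G), (y : G)⁆, comm_mem G x.2 y.2⟩)).mpr ?_
      exact Subgroup.lowerCentralSeries_antitone _ (by omega) (comm_mem G (show (x : G) ∈ γ G (i + 1) from hx) y.2)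

/-- The Lie ring carrier. -/
abbrev LG : Type u := ⨁ i, Additive (GrM G i)

/-- The homogeneous element of `x ∈ γ i`. -/
def ι (i : ℕ) (x : G) (hx : x ∈ γ G i) : LG G :=
  DirectSum.of (fun i => Additive (GrM G i)) i (Additive.ofMul (mkG G i ⟨x, hx⟩))

theorem ι_congr {i j : ℕ} {x y : G} (hij : i = j) (hxy : x = y) (hx : x ∈ γ G i) (hy : y ∈ γ G j) :
    ι G i x hx = ι G j y hy := by subst hij; subst hxy; rfl

theorem ι_mul {i : ℕ} {x y : G} (hx : x ∈ γ G i) (hy : y ∈ γ G i) :
    ι G i (x * y) ((γ G i).mul_mem hx hy) = ι G i x hx + ι G i y hy := by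
  rw [ι, ι, ι, ← map_add, ← ofMul_mul, ← map_mul]
  rfl

theorem ι_zero {i : ℕ} {x : G} (hx : x ∈ γ G i) (h : x ∈ γ G (i + 1)) : ι G i x hx = 0 := by
  rw [ι, (mkG_eq_one (G := G) (x := ⟨x, hx⟩)).mpr h, ofMul_one, map_zero]

theorem ι_one (i : ℕ) : ι G i 1 (γ G i).one_mem = 0 := ι_zero G _ (γ G (i + 1)).one_mem

theorem ι_inv {i : ℕ} {x : G} (hx : x ∈ γ G i) : ι G i x⁻¹ ((γ G i).inv_mem hx) = -ι G i x hx := by
  rw [eq_neg_iff_add_eq_zero, ← ι_mul, ← ι_one G i]
  exact ι_congr G rfl (inv_mul_cancel x) _ _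

theorem ι_conj {i : ℕ} {x : G} (g : G) (hx : x ∈ γ G i) :
    ι G i (g * x * g⁻¹) (Subgroup.Normal.conj_mem inferInstance x hx g) = ι G i x hx := by
  rw [ι, ι, mkG_conj G g ⟨x, hx⟩]

theorem eq_of_ι_eq_zero {i : ℕ} {x : G} (hx : x ∈ γ G i) (h : ι G i x hx = 0) : x ∈ γ G (i + 1) := by
  refine (mkG_eq_one (G := G) (x := ⟨x, hx⟩)).mp ?_
  have h2 := DirectSum.of_injective (β := fun i => Additive (GrM G i)) i (h.trans (map_zero _).symm)
  exact Additive.ofMul.injective (h2.trans ofMul_one.symm)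

theorem induction_ι {motive : LG G → Prop} (h0 : motive 0) (hι : ∀ i x hx, motive (ι G i x hx))
    (hadd : ∀ a b, motive a → motive b → motive (a + b)) (z : LG G) : motive z := by
  induction z using DirectSum.induction_on with
  | zero => exact h0
  | of i X =>
    obtain ⟨x, hx⟩ := mkG_surjective G i X.toMul
    have : X = Additive.ofMul (mkG G i x) := by rw [hx]; rfl
    rw [this]
    exact hι i x x.2
  | add a b ha hb => exact hadd a b ha hb

/-- The bracket, as an additive map in two variables. -/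
noncomputable def brk : LG G →+ LG G →+ LG G :=
  DirectSum.toAddMonoid fun i => (DirectSum.toAddMonoid fun j =>
    AddMonoidHom.mk' (fun Y => AddMonoidHom.mk' (fun X =>
        DirectSum.of (fun i => Additive (GrM G i)) (i + j + 1) (Additive.ofMul (brHom G i j X.toMul Y.toMul)))
      fun X X' => by simp only [toMul_add, map_mul, MonoidHom.mul_apply, ofMul_mul, map_add])
    fun Y Y' => by
      refine AddMonoidHom.ext fun X => ?_
      simp only [AddMonoidHom.mk'_apply, toMul_add, map_mul, ofMul_mul, map_add, AddMonoidHom.add_apply]).flip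

noncomputable instance : Bracket (LG G) (LG G) := ⟨fun a b => brk G a b⟩

theorem lie_ι {i j : ℕ} {x y : G} (hx : x ∈ γ G i) (hy : y ∈ γ G j) :
    ⁅ι G i x hx, ι G j y hy⁆ = ι G (i + j + 1) ⁅x, y⁆ (comm_mem G hx hy) := by
  show brk G _ _ = _
  rw [brk, ι, ι, DirectSum.toAddMonoid_of, AddMonoidHom.flip_apply, DirectSum.toAddMonoid_of]
  rfl

theorem add_lie' (a b c : LG G) : ⁅a + b, c⁆ = ⁅a, c⁆ + ⁅b, c⁆ := by
  show brk G (a + b) c = _; rw [map_add]; rfl

theorem lie_add' (a b c : LG G) : ⁅a, b + c⁆ = ⁅a, b⁆ + ⁅a, c⁆ := by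
  show brk G a (b + c) = _; rw [map_add]; rfl

theorem zero_lie' (a : LG G) : ⁅(0 : LG G), a⁆ = 0 := by show brk G 0 a = 0; rw [map_zero]; rfl

theorem lie_zero' (a : LG G) : ⁅a, (0 : LG G)⁆ = 0 := by show brk G a 0 = 0; rw [map_zero]

theorem skew' : ∀ a b : LG G, ⁅a, b⁆ + ⁅b, a⁆ = 0 := by
  refine induction_ι G ?_ ?_ ?_
  · intro b; rw [zero_lie', lie_zero', add_zero]
  · intro i x hx
    refine induction_ι G ?_ ?_ ?_
    · rw [zero_lie', lie_zero', add_zero]
    · intro j y hy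
      have hm := (γ G (i + j + 1)).inv_mem (comm_mem G hx hy)
      rw [lie_ι, lie_ι, ι_congr G (show j + i + 1 = i + j + 1 by omega) (commutatorElement_inv x y).symm _ hm,
        ι_inv G (comm_mem G hx hy), add_neg_cancel]
    · intro a b ha hb
      rw [lie_add', add_lie', add_add_add_comm, ha, hb, add_zero]
  · intro a b ha hb c
    rw [add_lie', lie_add', add_add_add_comm, ha, hb, add_zero]

theorem cyclic' : ∀ a b c : LG G, ⁅a, ⁅b, c⁆⁆ + ⁅b, ⁅c, a⁆⁆ + ⁅c, ⁅a, b⁆⁆ = 0 := by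
  refine induction_ι G ?_ ?_ ?_
  · intro b c; simp [zero_lie', lie_zero']
  · intro i x hx
    refine induction_ι G ?_ ?_ ?_
    · intro c; simp [zero_lie', lie_zero']
    · intro j y hy
      refine induction_ι G ?_ ?_ ?_
      · simp [zero_lie', lie_zero']
      · intro k z hz
        set N := i + j + k + 2 with hN
        have key : ∀ {a b c : ℕ} {u v w : G} (hu : u ∈ γ G a) (hv : v ∈ γ G b) (hw : w ∈ γ G c)
            (habc : a + b + c + 2 = N) (g : G) (h : g * ⁅u, ⁅v⁻¹, w⁆⁆ * g⁻¹ ∈ γ G N),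
            ι G N (g * ⁅u, ⁅v⁻¹, w⁆⁆ * g⁻¹) h = -⁅ι G a u hu, ⁅ι G b v hv, ι G c w hw⁆⁆ := by
          intro a b c u v w hu hv hw habc g h
          have e1 : ⁅ι G b v⁻¹ ((γ G b).inv_mem hv), ι G c w hw⁆ = -⁅ι G b v hv, ι G c w hw⁆ := by
            rw [ι_inv]; show brk G (-_) _ = -brk G _ _; rw [map_neg]; rfl
          have e2 : -⁅ι G a u hu, ⁅ι G b v hv, ι G c w hw⁆⁆ =
              ⁅ι G a u hu, ⁅ι G b v⁻¹ ((γ G b).inv_mem hv), ι G c w hw⁆⁆ := by
            rw [e1]; show -brk G _ _ = brk G _ _; rw [map_neg]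
          rw [e2, lie_ι, lie_ι]
          exact (ι_congr G rfl rfl h _).trans ((ι_conj G g (show ⁅u, ⁅v⁻¹, w⁆⁆ ∈ γ G N from
            habc ▸ (show a + (b + c + 1) + 1 = a + b + c + 2 by omega) ▸
              comm_mem G hu (comm_mem G ((γ G b).inv_mem hv) hw))).trans (ι_congr G (by omega) rfl _ _))
        have m1 : y * ⁅x, ⁅y⁻¹, z⁆⁆ * y⁻¹ ∈ γ G N := Subgroup.Normal.conj_mem inferInstance _
          (by rw [hN, show i + j + k + 2 = i + (j + k + 1) + 1 by omega]
              exact comm_mem G hx (comm_mem G ((γ G j).inv_mem hy) hz)) y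
        have m2 : z * ⁅y, ⁅z⁻¹, x⁆⁆ * z⁻¹ ∈ γ G N := Subgroup.Normal.conj_mem inferInstance _
          (by rw [hN, show i + j + k + 2 = j + (k + i + 1) + 1 by omega]
              exact comm_mem G hy (comm_mem G ((γ G k).inv_mem hz) hx)) z
        have m3 : x * ⁅z, ⁅x⁻¹, y⁆⁆ * x⁻¹ ∈ γ G N := Subgroup.Normal.conj_mem inferInstance _
          (by rw [hN, show i + j + k + 2 = k + (i + j + 1) + 1 by omega]
              exact comm_mem G hz (comm_mem G ((γ G i).inv_mem hx) hy)) x
        have hsum : ι G N (y * ⁅x, ⁅y⁻¹, z⁆⁆ * y⁻¹ * (z * ⁅y, ⁅z⁻¹, x⁆⁆ * z⁻¹) * (x * ⁅z, ⁅x⁻¹, y⁆⁆ * x⁻¹))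
            ((γ G N).mul_mem ((γ G N).mul_mem m1 m2) m3) = 0 := by
          rw [← ι_one G N]
          refine ι_congr G rfl ?_ _ _
          rw [← conj_commutatorElement_right_commutatorElement_mul x y z]
          simp only [mul_assoc]
        rw [ι_mul G ((γ G N).mul_mem m1 m2) m3, ι_mul G m1 m2, key hx hy hz rfl y m1,
          key hy hz hx (by omega) z m2, key hz hx hy (by omega) x m3, ← neg_add, ← neg_add, neg_eq_zero] at hsum
        exact hsum
      · intro a b ha hb
        rw [lie_add' G (ι G j y hy), add_lie' G a b (ι G i x hx), lie_add', lie_add', add_lie']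
        linear_combination (norm := abel) ha + hb
    · intro a b ha hb c
      rw [add_lie', lie_add' G (ι G i x hx) a b, lie_add', lie_add', add_lie']
      linear_combination (norm := abel) ha c + hb c
  · intro a b ha hb c d
    rw [add_lie', lie_add' G d a b, add_lie' G a b c, lie_add', lie_add']
    linear_combination (norm := abel) ha c d + hb c d

theorem self' : ∀ a : LG G, ⁅a, a⁆ = 0 := by
  refine induction_ι G ?_ ?_ ?_
  · exact zero_lie' G 0
  · intro i x hx
    rw [lie_ι]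
    exact (ι_congr G rfl (commutatorElement_self x) _ _).trans (ι_one G _)
  · intro a b ha hb
    rw [add_lie', lie_add', lie_add', ha, hb, zero_add, add_zero]
    exact skew' G a b

noncomputable instance : LieRing (LG G) where
  add_lie := add_lie' G
  lie_add := lie_add' G
  lie_self := self' G
  leibniz_lie a b c := by
    have h := cyclic' G a b c
    have h1 := skew' G ⁅a, b⁆ c
    have h2 : ⁅b, ⁅c, a⁆⁆ = -⁅b, ⁅a, c⁆⁆ := by
      rw [eq_neg_of_add_eq_zero_left (skew' G c a)]; show brk G _ (-_) = -brk G _ _; rw [map_neg]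
    rw [h2, eq_neg_of_add_eq_zero_right h1] at h
    linear_combination (norm := abel) h

end Cfsg.Agent.Transfer.LCSLie
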