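/-
The Higman–Kreknin–Kostrikin class bound.
-/
import Cfsg.Agent.Transfer.LCSLieRing
import Cfsg.Agent.Core.HallHigman.ShultGross

set_option autoImplicit false
set_option linter.style.haveILetI false
set_option linter.unusedSectionVars false
set_option maxSynthPendingDepth 4

namespace Cfsg.Agent.Transfer.HigmanBound

open LCSLie KreKos
open scoped DirectSum commutatorElement TensorProduct

universe u

variable {G : Type u} [Group G]

theorem map_mem (α : MulAut G) {i : ℕ} {x : G} (hx : x ∈ γ G i) : α x ∈ γ G i :=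
  (Subgroup.characteristic_iff_map_eq.mp (inferInstance : (γ G i).Characteristic) α).le ⟨x, hx, rfl⟩

/-- The induced map on a factor. -/
def grMap (α : MulAut G) (i : ℕ) : GrM G i →* GrM G i :=
  QuotientGroup.lift _ ((mkG G i).comp (MonoidHom.mk' (fun x : γ G i => (⟨α x, map_mem α x.2⟩ : γ G i))
    fun a b => Subtype.ext (map_mul α _ _))) fun x hx => (mkG_eq_one (G := G)).mpr (map_mem α hx)

theorem grMap_mk (α : MulAut G) (i : ℕ) (x : γ G i) : grMap α i (mkG G i x) = mkG G i ⟨α x, map_mem α x.2⟩ := rfl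

/-- The induced map on the Lie ring. -/
noncomputable def lMap (α : MulAut G) : LG G →+ LG G := DirectSum.map fun i => (grMap α i).toAdditive

theorem lMap_ι (α : MulAut G) {i : ℕ} {x : G} (hx : x ∈ γ G i) :
    lMap α (ι G i x hx) = ι G i (α x) (map_mem α hx) := by
  rw [ι, lMap, DirectSum.map_of]
  rfl

theorem lMap_lie (α : MulAut G) : ∀ a b : LG G, lMap α ⁅a, b⁆ = ⁅lMap α a, lMap α b⁆ := by
  refine induction_ι G ?_ ?_ ?_
  · intro b; simp
  · intro i x hx
    refine induction_ι G ?_ ?_ ?_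
    · simp
    · intro j y hy
      rw [lie_ι, lMap_ι, lMap_ι, lMap_ι, lie_ι]
      exact ι_congr G rfl (map_commutatorElement α x y) _ _
    · intro a b ha hb; simp only [lie_add, map_add, ha, hb]
  · intro a b ha hb c; simp only [add_lie, map_add, ha c, hb c]

theorem nsmul_card_eq_zero [Finite G] (z : LG G) : Nat.card G • z = 0 := by
  induction z using induction_ι G with
  | h0 => exact smul_zero _
  | hι i x hx =>
    rw [ι, ← map_nsmul, ← ofMul_pow, ← map_pow,
      show (⟨x, hx⟩ : γ G i) ^ Nat.card G = 1 from Subtype.ext (by rw [SubmonoidClass.coe_pow, pow_card_eq_one']; rfl),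
      map_one, ofMul_one, map_zero]
  | hadd a b ha hb => rw [smul_add, ha, hb, add_zero]

theorem lMap_fpf [Finite G] (α : MulAut G) (hfpf : ∀ g, α g = g → g = 1) (z : LG G) (hz : lMap α z = z) :
    z = 0 := by
  refine DFinsupp.ext fun i => ?_
  have h1 : (grMap α i).toAdditive (z i) = z i := by
    have := congrArg (fun w : LG G => w i) hz
    simpa [lMap, DirectSum.map_apply] using this
  obtain ⟨x, hx⟩ := mkG_surjective G i (z i).toMul
  have h2 : grMap α i (mkG G i x) = mkG G i x := by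
    rw [hx]; exact congrArg Additive.toMul h1
  rw [grMap_mk, eq_comm, ← inv_mul_eq_one, ← map_inv, ← map_mul, mkG_eq_one] at h2
  have h3 : (x : G) ∈ γ G (i + 1) := by
    have hmap : (γ G (i + 1)).map α.toMonoidHom = γ G (i + 1) :=
      Subgroup.characteristic_iff_map_eq.mp inferInstance α
    refine (QuotientGroup.eq_one_iff (x : G)).mp (Core.ThompsonFPF.fpf_quotient (φ := α) hfpf hmap _ ?_)
    exact (QuotientGroup.eq.mpr h2).symm
  show z i = 0
  rw [← ofMul_toMul (z i), ← hx, (mkG_eq_one (G := G)).mpr h3, ofMul_one]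

theorem lMap_pow (α : MulAut G) : ∀ (k : ℕ) (z : LG G), (lMap α)^[k] z = lMap (α ^ k) z := by
  intro k
  induction k with
  | zero =>
    intro z
    induction z using induction_ι G with
    | h0 => simp
    | hι i x hx => rw [lMap_ι]; exact ι_congr G rfl (by simp) _ _
    | hadd a b ha hb => simp only [Function.iterate_zero, id_eq, map_add] at ha hb ⊢; rw [← ha, ← hb]
  | succ k ih =>
    intro z
    rw [Function.iterate_succ', Function.comp_apply, ih]
    induction z using induction_ι G with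
    | h0 => simp
    | hι i x hx =>
      rw [lMap_ι, lMap_ι, lMap_ι]
      exact ι_congr G rfl (by rw [pow_succ', MulAut.mul_apply]) _ _
    | hadd a b ha hb => simp only [map_add, ha, hb]

/-- The coefficient ring. -/
abbrev CR (p : ℕ) : Type := AdjoinRoot (Polynomial.cyclotomic p ℤ)

/-- The primitive root. -/
noncomputable def ω (p : ℕ) : CR p := AdjoinRoot.root _

theorem sum_ω {p : ℕ} (hp : p.Prime) : ∑ i ∈ Finset.range p, ω p ^ i = 0 := by
  haveI := Fact.mk hp
  have h := AdjoinRoot.mk_self (f := Polynomial.cyclotomic p ℤ)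
  have h2 := congrArg (AdjoinRoot.mk (Polynomial.cyclotomic p ℤ)) (Polynomial.cyclotomic_prime ℤ p)
  rw [h] at h2
  simp only [map_sum, map_pow, AdjoinRoot.mk_X] at h2
  exact h2.symm

theorem ω_pow {p : ℕ} (hp : p.Prime) : ω p ^ p = 1 := by
  rw [← sub_eq_zero, ← geom_sum_mul, sum_ω hp, zero_mul]

theorem ω_pow_mod {p : ℕ} (hp : p.Prime) (a : ℕ) : ω p ^ (a % p) = ω p ^ a := by
  conv_rhs => rw [← Nat.div_add_mod a p, pow_add, pow_mul, ω_pow hp, one_pow, one_mul]

theorem sum_ω_mul {p : ℕ} (hp : p.Prime) {i : ℕ} (hi0 : i ≠ 0) (hip : i < p) :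
    ∑ j ∈ Finset.range p, ω p ^ (i * j) = 0 := by
  have hinj : Set.InjOn (fun j => i * j % p) (Finset.range p : Finset ℕ) := by
    intro u hu v hv huv
    have h : u ≡ v [MOD p] := Nat.ModEq.cancel_left_of_coprime (Nat.coprime_of_lt_prime hi0 hip hp) huv
    rw [Finset.mem_coe, Finset.mem_range] at hu hv
    rwa [Nat.ModEq, Nat.mod_eq_of_lt hu, Nat.mod_eq_of_lt hv] at h
  have himg : (Finset.range p).image (fun j => i * j % p) = Finset.range p := by
    refine Finset.eq_of_subset_of_card_le (fun x hx => ?_) ?_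
    · obtain ⟨j, -, rfl⟩ := Finset.mem_image.mp hx
      exact Finset.mem_range.mpr (Nat.mod_lt _ hp.pos)
    · rw [Finset.card_image_of_injOn hinj]
  calc ∑ j ∈ Finset.range p, ω p ^ (i * j) = ∑ j ∈ Finset.range p, ω p ^ (i * j % p) :=
        Finset.sum_congr rfl fun j _ => (ω_pow_mod hp _).symm
    _ = ∑ k ∈ (Finset.range p).image (fun j => i * j % p), ω p ^ k := (Finset.sum_image hinj).symm
    _ = 0 := by rw [himg, sum_ω hp]

/-- The Lie ring with coefficients. -/
abbrev LA (p : ℕ) (G : Type u) [Group G] : Type u := CR p ⊗[ℤ] LG G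

/-- The operator on `LA`. -/
noncomputable def aMap (p : ℕ) (α : MulAut G) : LA p G →ₗ[CR p] LA p G :=
  (lMap α).toIntLinearMap.baseChange (CR p)

theorem aMap_tmul (p : ℕ) (α : MulAut G) (a : CR p) (x : LG G) : aMap p α (a ⊗ₜ x) = a ⊗ₜ lMap α x := rfl

theorem aMap_lie (p : ℕ) (α : MulAut G) : ∀ a b : LA p G, aMap p α ⁅a, b⁆ = ⁅aMap p α a, aMap p α b⁆ := by
  intro a
  induction a using TensorProduct.induction_on with
  | zero => intro b; simp
  | tmul r x =>
    intro b
    induction b using TensorProduct.induction_on with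
    | zero => simp
    | tmul r' y =>
      rw [LieAlgebra.ExtendScalars.bracket_tmul, aMap_tmul, aMap_tmul, aMap_tmul,
        LieAlgebra.ExtendScalars.bracket_tmul, lMap_lie]
    | add b c hb hc => simp only [lie_add, map_add, hb, hc]
  | add b c hb hc => intro d; simp only [add_lie, map_add, hb, hc]

theorem nsmul_card_eq_zero' [Finite G] {p : ℕ} (z : LA p G) : Nat.card G • z = 0 := by
  induction z using TensorProduct.induction_on with
  | zero => exact smul_zero _
  | tmul r x => rw [← TensorProduct.tmul_smul, nsmul_card_eq_zero, TensorProduct.tmul_zero]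
  | add b c hb hc => rw [smul_add, hb, hc, add_zero]

/-- The eigencomponents. -/
noncomputable def comp (p : ℕ) (α : MulAut G) (j : ℕ) : AddSubgroup (LA p G) :=
  (LinearMap.ker (aMap p α - (ω p ^ j) • LinearMap.id)).toAddSubgroup

theorem mem_comp {p : ℕ} {α : MulAut G} {j : ℕ} {z : LA p G} : z ∈ comp p α j ↔ aMap p α z = ω p ^ j • z := by
  show z ∈ LinearMap.ker (aMap p α - (ω p ^ j) • LinearMap.id) ↔ _
  rw [LinearMap.mem_ker, LinearMap.sub_apply, LinearMap.smul_apply, LinearMap.id_apply, sub_eq_zero]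

variable [Finite G] {p : ℕ} {α : MulAut G}

theorem exists_inv (hcop : (Nat.card G).Coprime p) : ∃ k : ℕ, ∀ z : LA p G, (k * p) • z = z := by
  rcases Nat.eq_or_lt_of_le (show 1 ≤ Nat.card G from Nat.card_pos) with h | h
  · exact ⟨0, fun z => by rw [Nat.zero_mul, zero_smul]; simpa [← h] using (nsmul_card_eq_zero' z).symm⟩
  obtain ⟨k, -, hk⟩ := Nat.exists_mul_mod_eq_one_of_coprime hcop.symm h
  refine ⟨k, fun z => ?_⟩
  rw [Nat.mul_comm, ← Nat.div_add_mod (p * k) (Nat.card G), hk, add_smul, one_smul, mul_smul, nsmul_card_eq_zero',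
    zero_add]

theorem norm_zero (hp : p.Prime) (hα : α ^ p = 1) (hfpf : ∀ g, α g = g → g = 1) (z : LA p G) :
    ∑ i ∈ Finset.range p, aMap p (α ^ i) z = 0 := by
  induction z using TensorProduct.induction_on with
  | zero => simp
  | tmul r x =>
    simp only [aMap_tmul]
    rw [← TensorProduct.tmul_sum]
    convert TensorProduct.tmul_zero (LG G) r
    refine lMap_fpf α hfpf _ ?_
    have e : ∀ i, lMap α (lMap (α ^ i) x) = lMap (α ^ (i + 1)) x := fun i => by
      rw [← lMap_pow α i, ← lMap_pow α (i + 1), Function.iterate_succ', Function.comp_apply]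
    rw [map_sum, Finset.sum_congr rfl fun i _ => e i]
    have e1 := Finset.sum_range_succ' (fun i => lMap (α ^ i) x) p
    have e2 := Finset.sum_range_succ (fun i => lMap (α ^ i) x) p
    rw [e2, hα, pow_zero] at e1
    exact (add_right_cancel e1).symm
  | add b c hb hc => simp only [map_add, Finset.sum_add_distrib, hb, hc, add_zero]

theorem aMap_pow (i : ℕ) (z : LA p G) : aMap p α (aMap p (α ^ i) z) = aMap p (α ^ (i + 1)) z := by
  induction z using TensorProduct.induction_on with
  | zero => simp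
  | tmul r x =>
    rw [aMap_tmul, aMap_tmul, aMap_tmul, ← lMap_pow α i, ← lMap_pow α (i + 1), Function.iterate_succ',
      Function.comp_apply]
  | add b c hb hc => simp only [map_add, hb, hc]

theorem aMap_one (z : LA p G) : aMap p (1 : MulAut G) z = z := by
  induction z using TensorProduct.induction_on with
  | zero => simp
  | tmul r x => rw [aMap_tmul, ← pow_zero (1 : MulAut G), ← lMap_pow]; rfl
  | add b c hb hc => simp only [map_add, hb, hc]

theorem isGr (hp : p.Prime) (hα : α ^ p = 1) (hfpf : ∀ g, α g = g → g = 1) (hcop : (Nat.card G).Coprime p) :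
    IsGr p (comp p α) where
  pos := hp.pos
  zero := by
    rw [eq_bot_iff]
    intro z hz
    rw [mem_comp, pow_zero, one_smul] at hz
    rw [AddSubgroup.mem_bot]
    have hall : ∀ i, aMap p (α ^ i) z = z := fun i => by
      induction i with
      | zero => rw [pow_zero, aMap_one]
      | succ i ih => rw [← aMap_pow, ih, hz]
    have h := norm_zero hp hα hfpf z
    rw [Finset.sum_congr rfl fun i _ => hall i, Finset.sum_const, Finset.card_range] at h
    obtain ⟨k, hk⟩ := exists_inv (G := G) hcop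
    rw [← hk z, mul_smul, h, smul_zero]
  lie i j _ _ x hx y hy := by
    rw [mem_comp] at hx hy ⊢
    rw [aMap_lie, hx, hy, smul_lie, lie_smul, smul_smul, ← pow_add, ω_pow_mod hp]

/-- The sum of the components at a level. -/
noncomputable def Lev (p : ℕ) (α : MulAut G) (m : ℕ) : AddSubgroup (LA p G) :=
  AddSubgroup.closure {z | ∃ j, j < p ∧ z ∈ Γ p (comp p α) m j}

theorem top_le_lev (hp : p.Prime) (hα : α ^ p = 1) (hcop : (Nat.card G).Coprime p) (z : LA p G) :
    z ∈ Lev p α 0 := by
  obtain ⟨k, hk⟩ := exists_inv (G := G) hcop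
  have hz : z = ∑ j ∈ Finset.range p, k • ∑ i ∈ Finset.range p, ω p ^ (i * j) • aMap p (α ^ i) z := by
    rw [← Finset.smul_sum, Finset.sum_comm]
    simp only [← Finset.sum_smul]
    rw [Finset.sum_eq_single 0]
    · simp only [zero_mul, pow_zero, Finset.sum_const, Finset.card_range, aMap_one, nsmul_one]
      rw [Nat.cast_smul_eq_nsmul, ← mul_smul, hk]
    · intro i hi hi0
      rw [sum_ω_mul hp hi0 (Finset.mem_range.mp hi), zero_smul]
    · exact fun h => absurd (Finset.mem_range.mpr hp.pos) h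
  rw [hz]
  refine AddSubgroup.sum_mem _ fun j hj => ?_
  refine AddSubgroup.nsmul_mem _ ?_ k
  refine AddSubgroup.subset_closure ⟨(p - j) % p, Nat.mod_lt _ hp.pos, ?_⟩
  show _ ∈ comp p α ((p - j) % p)
  rw [mem_comp, ω_pow_mod hp, map_sum, Finset.smul_sum]
  simp only [map_smul, aMap_pow, smul_smul, ← pow_add]
  have hjp := Finset.mem_range.mp hj
  have hshift : ∀ i, ω p ^ (p - j + (i + 1) * j) = ω p ^ (i * j) := fun i => by
    rw [show p - j + (i + 1) * j = p + i * j by rw [Nat.add_mul, Nat.one_mul]; omega, pow_add, ω_pow hp, one_mul]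
  have e1 := Finset.sum_range_succ' (fun i => ω p ^ (p - j + i * j) • aMap p (α ^ i) z) p
  have e2 := Finset.sum_range_succ (fun i => ω p ^ (p - j + i * j) • aMap p (α ^ i) z) p
  have hlast : ω p ^ (p - j + p * j) = ω p ^ (p - j + 0 * j) := by
    rw [Nat.zero_mul, Nat.add_zero, pow_add, pow_mul, ω_pow hp, one_pow, mul_one]
  rw [e2, hα, hlast, pow_zero] at e1
  refine Eq.trans ?_ (add_right_cancel e1).symm
  exact Finset.sum_congr rfl fun i _ => by rw [hshift]

theorem lev_lie {m : ℕ} {x y : LA p G} (hx : x ∈ Lev p α m) (hy : y ∈ Lev p α 0) : ⁅x, y⁆ ∈ Lev p α (m + 1) := by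
  refine lie_closure_left ?_ hx
  rintro u ⟨i, hi, hu⟩
  refine lie_closure_right ?_ hy
  rintro v ⟨j, hj, hv⟩
  exact AddSubgroup.subset_closure ⟨(i + j) % p, Nat.mod_lt _ (by omega), Γ_lie_gen hi hj hu hv⟩

/-- The embedding. -/
noncomputable def emb (p : ℕ) (G : Type u) [Group G] : LG G →+ LA p G :=
  AddMonoidHom.mk' (fun x => (1 : CR p) ⊗ₜ x) fun a b => TensorProduct.tmul_add _ a b

theorem emb_injective (hp : p.Prime) : Function.Injective (emb p G) := by
  have hmon := Polynomial.cyclotomic.monic p ℤ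
  let b := (AdjoinRoot.powerBasis' hmon).basis
  have hdim : 0 < (AdjoinRoot.powerBasis' hmon).dim := by
    rw [AdjoinRoot.powerBasis'_dim, Polynomial.natDegree_cyclotomic]
    exact Nat.totient_pos.mpr hp.pos
  let r : CR p →ₗ[ℤ] ℤ := b.coord ⟨0, hdim⟩
  have hr : r 1 = 1 := by
    have h1 : b ⟨0, hdim⟩ = 1 := by
      show (AdjoinRoot.powerBasis' hmon).basis ⟨0, hdim⟩ = 1
      rw [PowerBasis.coe_basis]
      exact pow_zero _
    show b.coord ⟨0, hdim⟩ 1 = 1
    rw [← h1, Module.Basis.coord_apply, Module.Basis.repr_self, Finsupp.single_eq_same]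
  refine (injective_iff_map_eq_zero _).mpr fun x hx => ?_
  have := congrArg ((TensorProduct.lid ℤ (LG G)).toLinearMap ∘ₗ r.rTensor (LG G)) hx
  simpa [emb, hr] using this

theorem ι_mem_lev (hp : p.Prime) (hα : α ^ p = 1) (hcop : (Nat.card G).Coprime p) :
    ∀ m, ∀ x, ∀ hx : x ∈ γ G m, emb p G (ι G m x hx) ∈ Lev p α m := by
  intro m
  induction m with
  | zero => exact fun x hx => top_le_lev hp hα hcop _
  | succ m ih =>
    intro x hx
    have hx' : x ∈ Subgroup.closure {g | ∃ a ∈ γ G m, ∃ b ∈ (⊤ : Subgroup G), ⁅a, b⁆ = g} := hx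
    suffices ∀ y ∈ Subgroup.closure {g | ∃ a ∈ γ G m, ∃ b ∈ (⊤ : Subgroup G), ⁅a, b⁆ = g},
        ∃ hy : y ∈ γ G (m + 1), emb p G (ι G (m + 1) y hy) ∈ Lev p α (m + 1) from (this x hx').2
    intro y hy
    induction hy using Subgroup.closure_induction with
    | mem g hg =>
      obtain ⟨a, ha, b, -, rfl⟩ := hg
      have hb0 : b ∈ γ G 0 := Subgroup.mem_top b
      refine ⟨comm_mem (j := 0) G ha hb0, ?_⟩
      have h := lev_lie (ih a ha) (top_le_lev hp hα hcop (emb p G (ι G 0 b hb0)))
      have e : emb p G (ι G (m + 1) ⁅a, b⁆ (comm_mem (j := 0) G ha hb0)) =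
          ⁅emb p G (ι G m a ha), emb p G (ι G 0 b hb0)⁆ := by
        show (1 : CR p) ⊗ₜ[ℤ] _ = ⁅(1 : CR p) ⊗ₜ[ℤ] _, (1 : CR p) ⊗ₜ[ℤ] _⁆
        rw [LieAlgebra.ExtendScalars.bracket_tmul, one_mul]
        exact congrArg (fun w => (1 : CR p) ⊗ₜ[ℤ] w) (lie_ι G ha hb0).symm
      rw [e]; exact h
    | one => exact ⟨Subgroup.one_mem _, by rw [ι_one, map_zero]; exact AddSubgroup.zero_mem _⟩
    | mul a b _ _ ha hb =>
      obtain ⟨ha', ha⟩ := ha
      obtain ⟨hb', hb⟩ := hb
      exact ⟨Subgroup.mul_mem _ ha' hb', by rw [ι_mul G ha' hb', map_add]; exact AddSubgroup.add_mem _ ha hb⟩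
    | inv a _ ha =>
      obtain ⟨ha', ha⟩ := ha
      exact ⟨Subgroup.inv_mem _ ha', by rw [ι_inv G ha', map_neg]; exact AddSubgroup.neg_mem _ ha⟩

/-- The class bound from a vanishing level. -/
theorem lcs_eq_bot (hp : p.Prime) (hord : orderOf α = p) (hfpf : ∀ g, α g = g → g = 1) {m : ℕ}
    (hbound : ∀ E : ℕ → AddSubgroup (LA p G), IsGr p E → ∀ j, j < p → Γ p E m j = ⊥) : γ G m = ⊥ := by
  haveI := Fact.mk hp
  have hα : α ^ p = 1 := hord ▸ pow_orderOf_eq_one α
  have hcop : (Nat.card G).Coprime p :=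
    ((hp.coprime_iff_not_dvd).mpr (Core.HH.not_dvd_card_of_fpf α (k := 1) (by rw [pow_one, hα]) hfpf)).symm
  have hnil : Group.IsNilpotent G := Core.ThompsonFPF.fpf_aux hp _ le_rfl α hfpf fun g => by
    rw [Core.ThompsonFPF.iterate_eq_pow]; show (α ^ p) g = g; rw [hα]; rfl
  have hlev : ∀ z ∈ Lev p α m, z = 0 := fun z hz => by
    rw [← AddSubgroup.mem_bot]
    refine (AddSubgroup.closure_le _).mpr ?_ hz
    rintro w ⟨j, hj, hw⟩
    rwa [hbound _ (isGr hp hα hfpf hcop) j hj] at hw
  have hle : γ G m ≤ γ G (m + 1) := fun x hx => eq_of_ι_eq_zero G hx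
    (emb_injective hp ((hlev _ (ι_mem_lev hp hα hcop m x hx)).trans (map_zero _).symm))
  obtain ⟨N, hN⟩ := Subgroup.nilpotent_iff_lowerCentralSeries.mp hnil
  have hstab : ∀ k, γ G m ≤ γ G (m + k) := by
    intro k
    induction k with
    | zero => exact le_rfl
    | succ k ih =>
      refine hle.trans ?_
      show ⁅γ G m, ⊤⁆ ≤ ⁅γ G (m + k), ⊤⁆
      exact Subgroup.commutator_mono ih le_rfl
  exact le_bot_iff.mp (((hstab N).trans (Subgroup.lowerCentralSeries_antitone _ (Nat.le_add_left N m))).trans hN.le)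

end Cfsg.Agent.Transfer.HigmanBound
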