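import Cfsg.Agent.Linear.SmallIso
import Cfsg.Agent.S3742

/-! `Q₈ ⋊ C₃` maps onto `SL(2,3)`; quaternion subgroups of generalized quaternion groups. -/

set_option autoImplicit false

namespace Cfsg.Agent.Transfer.QSec

open Cfsg.Agent.S3742 (F Good)

/-- Every automorphism of order three of `Q₈` is conjugation by an element of order three of `SL(2,3)`. -/
theorem exists_matrix : ∀ u v : QuaternionGroup 2, Good u v → (∀ q, F u v (F u v (F u v q)) = q) →
    (¬ ∀ q, F u v q = q) → ∃ M : Matrix.SpecialLinearGroup (Fin 2) (ZMod 3),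
      M ^ 3 = 1 ∧ M ≠ 1 ∧ ∀ q, Linear.qFun (F u v q) = M * Linear.qFun q * M⁻¹ := by
  decide +kernel

/-- An odd-order permutation of four letters has order dividing three. -/
theorem perm_four_cube : ∀ σ : Equiv.Perm (Fin 4),
    (∃ k : Fin 24, k.val % 2 = 1 ∧ σ ^ k.val = 1) → σ ^ 3 = 1 := by decide +kernel

theorem aut_cube (α : MulAut (QuaternionGroup 2)) (hodd : Odd (orderOf α)) : α ^ 3 = 1 := by
  obtain ⟨e⟩ := Cfsg.Agent.S3742.result
  apply e.injective
  rw [map_pow, map_one]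
  have h24 : orderOf (e α) ∣ 24 := by
    refine (orderOf_dvd_natCard _).trans ?_
    rw [Nat.card_perm, Nat.card_fin]
    rfl
  have ho : Odd (orderOf (e α)) := by rwa [MulEquiv.orderOf_eq]
  have hlt : orderOf (e α) < 24 := lt_of_le_of_ne (Nat.le_of_dvd (by norm_num) h24) (fun h => by
    rw [h] at ho; exact absurd ho (by decide))
  exact perm_four_cube _ ⟨⟨_, hlt⟩, Nat.odd_iff.mp ho, pow_orderOf_eq_one _⟩

variable {G : Type*} [Group G]

/-- The homomorphism out of `Q₈` given by two elements satisfying the relations. -/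
def q8Hom (c y : G) (h4 : c ^ 4 = 1) (hy : y * y = c ^ 2) (hcy : y * c * y⁻¹ = c⁻¹) :
    QuaternionGroup 2 →* G :=
  have hval : ∀ i j : ZMod (2 * 2), c ^ (i + j).val = c ^ i.val * c ^ j.val := fun i j => by
    rw [← pow_add, ZMod.val_add, ← pow_eq_pow_mod _ h4]
  have hneg : ∀ i : ZMod (2 * 2), c ^ i.val * y = y * c ^ (-i).val := fun i => by
    have h1 : y * c ^ (-i).val * y⁻¹ = (c ^ (-i).val)⁻¹ := by rw [← conj_pow, hcy, inv_pow]
    have h2 : (c ^ (-i).val)⁻¹ = c ^ i.val := by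
      refine inv_eq_of_mul_eq_one_right ?_
      rw [← hval, neg_add_cancel]; simp
    rw [h2] at h1
    rw [← h1, inv_mul_cancel_right]
  MonoidHom.mk' (fun q => match q with
    | .a i => c ^ i.val
    | .xa i => y * c ^ i.val) (by
    rintro (i | i) (j | j)
    · exact hval i j
    · show y * c ^ (j - i).val = c ^ i.val * (y * c ^ j.val)
      rw [← mul_assoc, hneg, mul_assoc, ← hval, sub_eq_neg_add]
    · show y * c ^ (i + j).val = y * c ^ i.val * c ^ j.val
      rw [hval, mul_assoc]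
    · show c ^ ((2 : ZMod (2 * 2)) + j - i).val = y * c ^ i.val * (y * c ^ j.val)
      rw [mul_assoc y, ← mul_assoc (c ^ i.val) y, hneg, mul_assoc y, ← mul_assoc y y, hy, ← hval,
        show (2 : ZMod (2 * 2)) + j - i = 2 + (-i + j) by abel, hval]
      rfl)

theorem q8Hom_a (c y : G) (h4 : c ^ 4 = 1) (hy : y * y = c ^ 2) (hcy : y * c * y⁻¹ = c⁻¹) :
    q8Hom c y h4 hy hcy (.a 1) = c := pow_one c

theorem q8Hom_xa (c y : G) (h4 : c ^ 4 = 1) (hy : y * y = c ^ 2) (hcy : y * c * y⁻¹ = c⁻¹) :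
    q8Hom c y h4 hy hcy (.xa 0) = y := by
  show y * c ^ (0 : ZMod (2 * 2)).val = y
  simp

/-- A non-identity element of order four in `Q₈`-like relations gives an injective map. -/
theorem q8Hom_injective (c y : G) (h4 : orderOf c = 4) (hy : y * y = c ^ 2)
    (hcy : y * c * y⁻¹ = c⁻¹) (hyc : y ∉ Subgroup.zpowers c) :
    Function.Injective (q8Hom c y (h4 ▸ pow_orderOf_eq_one c) hy hcy) := by
  rw [injective_iff_map_eq_one]
  rintro (i | i) h
  · have h' : c ^ i.val = 1 := h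
    have := orderOf_dvd_of_pow_eq_one h'
    rw [h4] at this
    have hlt := ZMod.val_lt i
    have h0 : i.val = 0 := by omega
    rw [ZMod.val_eq_zero] at h0
    subst h0
    rfl
  · exfalso
    have h' : y * c ^ i.val = 1 := h
    exact hyc (eq_inv_of_mul_eq_one_left h' ▸ Subgroup.inv_mem _ (Subgroup.pow_mem _ (Subgroup.mem_zpowers c) _))

/-- An odd-order automorphism of a cyclic 2-group is trivial. -/
theorem fix_of_cyclic {c g : G} [Finite G] (hc : ∃ k, orderOf c = 2 ^ k)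
    (hg : Odd (orderOf g)) (hmem : g * c * g⁻¹ ∈ Subgroup.zpowers c) : g * c * g⁻¹ = c := by
  obtain ⟨k, hk⟩ := hc
  obtain ⟨i, hi⟩ := mem_powers_iff_mem_zpowers.mpr hmem
  have hi' : c ^ i = g * c * g⁻¹ := hi
  have hiter : ∀ m : ℕ, g ^ m * c * (g ^ m)⁻¹ = c ^ (i ^ m) := by
    intro m
    induction m with
    | zero => simp
    | succ m ih =>
      calc g ^ (m + 1) * c * (g ^ (m + 1))⁻¹ = g * (g ^ m * c * (g ^ m)⁻¹) * g⁻¹ := by
            rw [pow_succ']; group
        _ = (g * c * g⁻¹) ^ (i ^ m) := by rw [ih, conj_pow]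
        _ = c ^ (i ^ (m + 1)) := by rw [← hi', ← pow_mul, pow_succ']
  have h1 := hiter (orderOf g)
  rw [pow_orderOf_eq_one, inv_one, one_mul, mul_one] at h1
  rw [← hi']
  rcases Nat.eq_zero_or_pos k with rfl | hkpos
  · have : c = 1 := orderOf_eq_one_iff.mp (by rw [hk, pow_zero])
    simp [this]
  have hmod : i ^ orderOf g ≡ 1 [MOD 2 ^ k] := by
    rw [← hk, ← pow_eq_pow_iff_modEq, ← h1, pow_one]
  have hiodd : i.Coprime 2 := by
    rw [Nat.coprime_two_right]
    by_contra hev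
    rw [Nat.not_odd_iff_even] at hev
    have h2 : i ^ orderOf g ≡ 1 [MOD 2] := hmod.of_dvd (dvd_pow_self 2 hkpos.ne')
    have h3 : Even (i ^ orderOf g) := hev.pow_of_ne_zero (orderOf_pos g).ne'
    rw [Nat.ModEq, Nat.even_iff.mp h3] at h2
    norm_num at h2
  have hu : ZMod.unitOfCoprime i (hiodd.pow_right k) ^ orderOf g = 1 := Units.ext (by
    push_cast [ZMod.coe_unitOfCoprime]
    exact_mod_cast (ZMod.natCast_eq_natCast_iff _ _ _).mpr hmod)
  have hu2 : ZMod.unitOfCoprime i (hiodd.pow_right k) ^ 2 ^ (k - 1) = 1 := by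
    have : NeZero (2 ^ k) := ⟨by positivity⟩
    have hcu := pow_card_eq_one (x := ZMod.unitOfCoprime i (hiodd.pow_right k))
    rwa [ZMod.card_units_eq_totient, Nat.totient_prime_pow Nat.prime_two hkpos, show (2 : ℕ) - 1 = 1 from rfl, mul_one] at hcu
  have hu3 : ZMod.unitOfCoprime i (hiodd.pow_right k) = 1 := by
    have := pow_gcd_eq_one.mpr ⟨hu, hu2⟩
    rwa [((Nat.coprime_two_right.mpr hg).pow_right (k - 1)).gcd_eq_one, pow_one] at this
  have hi1 : i ≡ 1 [MOD 2 ^ k] := by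
    have := congrArg Units.val hu3
    rw [ZMod.coe_unitOfCoprime, Units.val_one] at this
    exact (ZMod.natCast_eq_natCast_iff _ _ _).mp (by exact_mod_cast this)
  conv_rhs => rw [← pow_one c]
  rw [pow_eq_pow_iff_modEq, hk]
  exact hi1

/-- A subgroup of a generalized quaternion 2-group with a non-trivial odd automorphism is `Q₈`. -/
theorem exists_q8 [Finite G] {T : Subgroup G} {n : ℕ} (e : T ≃* QuaternionGroup (2 ^ n))
    {Q : Subgroup G} (hQT : Q ≤ T) {g : G} (hgN : g ∈ Subgroup.normalizer (Q : Set G))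
    (hg : Odd (orderOf g)) (hgC : g ∉ Subgroup.centralizer (Q : Set G)) :
    ∃ ι : QuaternionGroup 2 →* G, Function.Injective ι ∧ ι.range = Q := by
  set u : G := ((e.symm (QuaternionGroup.a 1) : T) : G) with hu
  set C := Subgroup.zpowers u with hC
  have hmemC : ∀ t : T, (∃ i, e t = QuaternionGroup.a i) → (t : G) ∈ C := by
    rintro t ⟨i, hi⟩
    obtain ⟨k, rfl⟩ := ZMod.natCast_zmod_surjective i
    have : t = e.symm (QuaternionGroup.a 1) ^ k := by
      apply e.injective
      rw [map_pow, e.apply_symm_apply, hi, QuaternionGroup.a_one_pow]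
    rw [this]
    exact Subgroup.pow_mem _ (Subgroup.mem_zpowers u) k
  have hmemC' : ∀ t : T, (t : G) ∈ C → ∃ i, e t = QuaternionGroup.a i := by
    intro t ht
    obtain ⟨k, hk⟩ := mem_powers_iff_mem_zpowers.mpr ht
    refine ⟨(k : ZMod (2 * 2 ^ n)), ?_⟩
    have : t = e.symm (QuaternionGroup.a 1) ^ k := Subtype.ext (by rw [Subgroup.coe_pow]; exact hk.symm)
    rw [this, map_pow, e.apply_symm_apply, QuaternionGroup.a_one_pow]
  -- outside `C`
  have hout : ∀ y ∈ T, y ∉ C → orderOf y = 4 ∧ (∀ c ∈ T, c ∈ C → y * c * y⁻¹ = c⁻¹) ∧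
      ∀ y' ∈ T, y' ∉ C → y⁻¹ * y' ∈ C := by
    intro y hy hyC
    obtain ⟨j, hj⟩ : ∃ j, e ⟨y, hy⟩ = QuaternionGroup.xa j := by
      rcases h : e ⟨y, hy⟩ with i | i
      · exact absurd (hmemC ⟨y, hy⟩ ⟨i, h⟩) hyC
      · exact ⟨i, rfl⟩
    refine ⟨?_, fun c hc hcC => ?_, fun y' hy' hy'C => ?_⟩
    · rw [← Subgroup.orderOf_mk y hy, ← MulEquiv.orderOf_eq e, hj, QuaternionGroup.orderOf_xa]
    · obtain ⟨i, hi⟩ := hmemC' ⟨c, hc⟩ hcC
      have : (⟨y, hy⟩ : T) * ⟨c, hc⟩ * ⟨y, hy⟩⁻¹ = (⟨c, hc⟩ : T)⁻¹ := by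
        apply e.injective
        rw [map_mul, map_mul, map_inv, map_inv, hj, hi, mul_inv_eq_iff_eq_mul]
        show QuaternionGroup.xa (j + i) = QuaternionGroup.a (-i) * QuaternionGroup.xa j
        rw [QuaternionGroup.a_mul_xa, sub_neg_eq_add]
      exact congrArg Subtype.val this
    · obtain ⟨j', hj'⟩ : ∃ j', e ⟨y', hy'⟩ = QuaternionGroup.xa j' := by
        rcases h : e ⟨y', hy'⟩ with i | i
        · exact absurd (hmemC ⟨y', hy'⟩ ⟨i, h⟩) hy'C
        · exact ⟨i, rfl⟩
      have := hmemC (⟨y, hy⟩⁻¹ * ⟨y', hy'⟩) ⟨_, by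
        rw [map_mul, map_inv, hj, hj']
        show QuaternionGroup.xa (((2 ^ n : ℕ) : ZMod (2 * 2 ^ n)) + j) * QuaternionGroup.xa j' = _
        rw [QuaternionGroup.xa_mul_xa]⟩
      simpa using this
  -- a generator of `Q ∩ C`
  haveI : IsCyclic (Q ⊓ C : Subgroup G) :=
    isCyclic_of_injective (Subgroup.inclusion (inf_le_right : Q ⊓ C ≤ C)) (Subgroup.inclusion_injective _)
  obtain ⟨⟨c, hcQ, hcC⟩, hcgen⟩ := IsCyclic.exists_generator (α := (Q ⊓ C : Subgroup G))
  have hcgen' : ∀ z, z ∈ Q → z ∈ C → z ∈ Subgroup.zpowers c := fun z h1 h2 => by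
    obtain ⟨k, hk⟩ := Subgroup.mem_zpowers_iff.mp (hcgen ⟨z, h1, h2⟩)
    exact Subgroup.mem_zpowers_iff.mpr ⟨k, congrArg Subtype.val hk⟩
  haveI : Fact (Nat.Prime 2) := ⟨Nat.prime_two⟩
  have hT2 : Nat.card T = 2 ^ (n + 2) := by
    haveI : NeZero (2 ^ n) := ⟨by positivity⟩
    rw [Nat.card_congr e.toEquiv, Nat.card_eq_fintype_card, QuaternionGroup.card]
    ring
  have hck : ∃ k, orderOf c = 2 ^ k := by
    obtain ⟨k, -, hk⟩ := (Nat.dvd_prime_pow Nat.prime_two).mp
      (hT2 ▸ Subgroup.orderOf_dvd_natCard T (hQT hcQ))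
    exact ⟨k, hk⟩
  obtain ⟨y, hyQ, hyC⟩ : ∃ y ∈ Q, y ∉ C := by
    by_contra hcon
    push Not at hcon
    apply hgC
    have hfix : g * c * g⁻¹ = c := fix_of_cyclic hck hg
      (hcgen' _ ((Subgroup.mem_normalizer_iff.mp hgN c).mp hcQ)
        (hcon _ ((Subgroup.mem_normalizer_iff.mp hgN c).mp hcQ)))
    rw [Subgroup.mem_centralizer_iff]
    intro z hz
    obtain ⟨k, rfl⟩ := Subgroup.mem_zpowers_iff.mp (hcgen' z hz (hcon z hz))
    exact ((Commute.zpow_left (show Commute c g from (mul_inv_eq_iff_eq_mul.mp hfix).symm) k)).eq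
  obtain ⟨hy4, hyinv, hyC2⟩ := hout y (hQT hyQ) hyC
  obtain ⟨k, hk⟩ := hck
  have hdec : ∀ z ∈ Q, z ∈ Subgroup.zpowers c ∨ y⁻¹ * z ∈ Subgroup.zpowers c := by
    intro z hz
    by_cases hzC : z ∈ C
    · exact Or.inl (hcgen' z hz hzC)
    · exact Or.inr (hcgen' _ (Q.mul_mem (Q.inv_mem hyQ) hz) (hyC2 z (hQT hz) hzC))
  have hzc : Subgroup.zpowers c ≤ C := Subgroup.zpowers_le.mpr hcC
  have hyy : y * y ∈ Subgroup.zpowers c := by
    rcases hdec _ (Q.mul_mem hyQ hyQ) with h | h
    · exact h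
    · rw [inv_mul_cancel_left] at h
      exact absurd (hzc h) hyC
  have hyy2 : orderOf (y * y) = 2 := by
    rw [← sq, orderOf_pow' _ two_ne_zero, hy4]
    rfl
  have hk1 : 1 ≤ k := by
    by_contra h
    have : c = 1 := orderOf_eq_one_iff.mp (by rw [hk, show k = 0 by omega, pow_zero])
    rw [this, Subgroup.zpowers_one_eq_bot, Subgroup.mem_bot] at hyy
    rw [hyy, orderOf_one] at hyy2
    exact absurd hyy2 (by norm_num)
  -- it suffices that `c` has order four
  suffices hc4 : orderOf c = 4 by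
    have hcy : y * c * y⁻¹ = c⁻¹ := hyinv c (hQT hcQ) hcC
    have hsq : y * y = c ^ 2 := by
      classical
      obtain ⟨i, hi, hie⟩ := Finset.mem_image.mp
        (((isOfFinOrder_of_finite c).mem_zpowers_iff_mem_range_orderOf).mp hyy)
      rw [Finset.mem_range, hc4] at hi
      rw [← hie]
      interval_cases i
      · rw [pow_zero] at hie; rw [← hie, orderOf_one] at hyy2; exact absurd hyy2 (by norm_num)
      · rw [pow_one] at hie; rw [← hie, hc4] at hyy2; exact absurd hyy2 (by norm_num)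
      · rfl
      · rw [← hie, orderOf_pow' _ (by norm_num), hc4] at hyy2; exact absurd hyy2 (by decide)
    refine ⟨q8Hom c y (hc4 ▸ pow_orderOf_eq_one c) hsq hcy,
      q8Hom_injective c y hc4 hsq hcy (fun h => hyC (hzc h)), le_antisymm ?_ ?_⟩
    · rintro _ ⟨q, rfl⟩
      cases q with
      | a i => exact Q.pow_mem hcQ _
      | xa i => exact Q.mul_mem hyQ (Q.pow_mem hcQ _)
    · intro z hz
      rcases hdec z hz with h | h
      · refine (Subgroup.zpowers_le.mpr ?_) h
        exact ⟨.a 1, q8Hom_a _ _ _ _ _⟩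
      · have hy' : y ∈ (q8Hom c y (hc4 ▸ pow_orderOf_eq_one c) hsq hcy).range := ⟨.xa 0, q8Hom_xa _ _ _ _ _⟩
        have := Subgroup.mul_mem _ hy' ((Subgroup.zpowers_le.mpr
          (⟨.a 1, q8Hom_a _ _ _ _ _⟩ : c ∈ (q8Hom c y (hc4 ▸ pow_orderOf_eq_one c) hsq hcy).range)) h)
        rwa [mul_inv_cancel_left] at this
  by_contra hne
  apply hgC
  have hgc : g * c * g⁻¹ ∈ Subgroup.zpowers c := by
    have hQg := (Subgroup.mem_normalizer_iff.mp hgN c).mp hcQ
    by_cases hconC : g * c * g⁻¹ ∈ C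
    · exact hcgen' _ hQg hconC
    · exfalso
      have h1 := (hout _ (hQT hQg) hconC).1
      have h2 : orderOf (g * c * g⁻¹) = orderOf c := MulEquiv.orderOf_eq (MulAut.conj g) c
      rw [h2] at h1
      exact hne h1
  have hfix : g * c * g⁻¹ = c := fix_of_cyclic ⟨k, hk⟩ hg hgc
  have hgy : y⁻¹ * (g * y * g⁻¹) ∈ Subgroup.zpowers c := by
    rcases hdec _ ((Subgroup.mem_normalizer_iff.mp hgN y).mp hyQ) with h | h
    · exfalso
      apply hyC
      obtain ⟨i, hi⟩ := Subgroup.mem_zpowers_iff.mp h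
      have : y = c ^ i := by
        have h' : g * c ^ i * g⁻¹ = c ^ i := by rw [← conj_zpow, hfix]
        apply mul_left_cancel (a := g)
        apply mul_right_cancel (b := g⁻¹)
        rw [h', hi]
      rw [this]
      exact C.zpow_mem hcC i
    · exact h
  obtain ⟨i, hi⟩ := Subgroup.mem_zpowers_iff.mp hgy
  have hgy' : g * y * g⁻¹ = y * c ^ i := by rw [hi, mul_inv_cancel_left]
  have hiter : ∀ m : ℕ, g ^ m * y * (g ^ m)⁻¹ = y * c ^ ((m : ℤ) * i) := by
    intro m
    induction m with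
    | zero => simp
    | succ m ih =>
      calc g ^ (m + 1) * y * (g ^ (m + 1))⁻¹ = g * (g ^ m * y * (g ^ m)⁻¹) * g⁻¹ := by
            rw [pow_succ']; group
        _ = (g * y * g⁻¹) * (g * c * g⁻¹) ^ ((m : ℤ) * i) := by rw [ih, conj_zpow]; group
        _ = y * c ^ (((m + 1 : ℕ) : ℤ) * i) := by
          rw [hgy', hfix, mul_assoc, ← zpow_add]; congr 2; push_cast; ring
  have h1 := hiter (orderOf g)
  rw [pow_orderOf_eq_one, inv_one, one_mul, mul_one, left_eq_mul] at h1
  have hd : ((2 : ℤ) ^ k) ∣ (orderOf g : ℤ) * i := by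
    have := orderOf_dvd_iff_zpow_eq_one.mpr h1
    rw [hk] at this
    exact_mod_cast this
  have hdi : ((2 : ℤ) ^ k) ∣ i := by
    refine Int.dvd_of_dvd_mul_right_of_gcd_one hd ?_
    have : ((2 ^ k).gcd (orderOf g)) = 1 := (Nat.coprime_two_left.mpr hg).pow_left k
    rwa [show ((2 : ℤ) ^ k) = ((2 ^ k : ℕ) : ℤ) by push_cast; rfl, Int.gcd_natCast_natCast]
  have hci : c ^ i = 1 := by
    rw [← orderOf_dvd_iff_zpow_eq_one, hk]; exact_mod_cast hdi
  rw [hci, mul_one] at hgy'
  rw [Subgroup.mem_centralizer_iff]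
  intro z hz
  have hcg : Commute c g := (mul_inv_eq_iff_eq_mul.mp hfix).symm
  have hyg : Commute y g := (mul_inv_eq_iff_eq_mul.mp hgy').symm
  rcases hdec z hz with h | h <;> obtain ⟨m, hm⟩ := Subgroup.mem_zpowers_iff.mp h
  · rw [← hm]; exact (hcg.zpow_left m).eq
  · rw [show z = y * c ^ m by rw [hm, mul_inv_cancel_left]]
    exact (hyg.mul_left (hcg.zpow_left m)).eq

/-- `Q₈⟨g⟩` has `SL(2,3)` as a quotient. -/
theorem exists_section [Finite G] (ι : QuaternionGroup 2 →* G) (hι : Function.Injective ι) {g : G}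
    {j : ℕ} (hj : orderOf g = 3 ^ j) (hgN : g ∈ Subgroup.normalizer ((ι.range : Subgroup G) : Set G))
    (hgC : g ∉ Subgroup.centralizer ((ι.range : Subgroup G) : Set G)) :
    ∃ (H K : Subgroup G) (hK : (K.subgroupOf H).Normal),
      Nonempty ((H ⧸ K.subgroupOf H) ≃* Matrix.SpecialLinearGroup (Fin 2) (ZMod 3)) := by
  classical
  haveI : Fintype G := Fintype.ofFinite G
  set Q := ι.range with hQ
  let e : QuaternionGroup 2 ≃* Q := MonoidHom.ofInjective hι
  let C := Subgroup.zpowers g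
  let conjQ : C →* MulAut (QuaternionGroup 2) :=
    (MulAut.congr e.symm).toMonoidHom.comp
      (Q.normalizerMonoidHom.comp (Subgroup.inclusion (Subgroup.zpowers_le.mpr hgN)))
  have hconj : ∀ (c : C) q, ι (conjQ c q) = (c : G) * ι q * (c : G)⁻¹ := by
    intro c q
    have h : e (conjQ c q) = (Q.normalizerMonoidHom.comp (Subgroup.inclusion (Subgroup.zpowers_le.mpr hgN))) c (e q) := by
      simp [conjQ, MulAut.congr]
    exact congrArg Subtype.val h
  set α := conjQ ⟨g, Subgroup.mem_zpowers g⟩ with hα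
  have hαodd : Odd (orderOf α) := by
    have h1 : orderOf α ∣ 3 ^ j := by
      rw [← hj, ← Subgroup.orderOf_mk g (Subgroup.mem_zpowers g)]
      exact orderOf_map_dvd conjQ _
    exact Odd.of_dvd_nat (Odd.pow (by decide)) h1
  have hα3 := aut_cube α hαodd
  have hα1 : α ≠ 1 := by
    intro h
    apply hgC
    rw [Subgroup.mem_centralizer_iff]
    rintro _ ⟨q, rfl⟩
    have h2 := hconj ⟨g, Subgroup.mem_zpowers g⟩ q
    rw [← hα, h, MulAut.one_apply] at h2
    exact eq_mul_inv_iff_mul_eq.mp h2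
  have hF : ∀ q, F (α (.a 1)) (α (.xa 0)) q = α q := by
    intro q
    cases q with
    | a i =>
      show α (QuaternionGroup.a 1) ^ (ZMod.val i) = α (QuaternionGroup.a i)
      rw [← map_pow]; congr 1; revert i; decide +kernel
    | xa i =>
      show α (QuaternionGroup.xa 0) * α (QuaternionGroup.a 1) ^ (ZMod.val i) = α (QuaternionGroup.xa i)
      rw [← map_pow, ← map_mul]; congr 1; revert i; decide +kernel
  obtain ⟨M, hM3, hM1, hM⟩ := exists_matrix (α (.a 1)) (α (.xa 0))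
    ⟨fun x y => by rw [hF, hF, hF, map_mul], fun x y h => α.injective (by rwa [hF, hF] at h)⟩
    (fun q => by
      rw [hF, hF, hF]
      have := MulEquiv.congr_fun hα3 q
      rwa [pow_succ, pow_two] at this)
    (fun h => hα1 (MulEquiv.ext fun q => by rw [← hF q, h q]; rfl))
  have hMg : orderOf M ∣ orderOf (⟨g, Subgroup.mem_zpowers g⟩ : C) := by
    rw [Subgroup.orderOf_mk, hj, orderOf_eq_prime hM3 hM1]
    refine dvd_pow_self 3 ?_
    rintro rfl
    rw [pow_zero, orderOf_eq_one_iff] at hj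
    exact hgC (hj ▸ Subgroup.one_mem _)
  let m : C →* Matrix.SpecialLinearGroup (Fin 2) (ZMod 3) :=
    monoidHomOfForallMemZpowers (g := (⟨g, Subgroup.mem_zpowers g⟩ : C))
      (fun x => by
        obtain ⟨i, hi⟩ := Subgroup.mem_zpowers_iff.mp x.2
        exact Subgroup.mem_zpowers_iff.mpr ⟨i, Subtype.ext (by rw [SubgroupClass.coe_zpow]; exact hi)⟩) hMg
  have hmg : m ⟨g, Subgroup.mem_zpowers g⟩ = M := monoidHomOfForallMemZpowers_apply_gen _ _
  have hcompat : ∀ c : C, Linear.qHom.comp (conjQ c).toMonoidHom =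
      (MulAut.conj (m c)).toMonoidHom.comp Linear.qHom := by
    rintro ⟨c, hc⟩
    obtain ⟨i, hi⟩ := mem_powers_iff_mem_zpowers.mpr hc
    have hci : (⟨c, hc⟩ : C) = (⟨g, Subgroup.mem_zpowers g⟩ : C) ^ i :=
      Subtype.ext (by rw [SubgroupClass.coe_pow]; exact hi.symm)
    rw [hci, map_pow, map_pow, hmg, ← hα]
    clear hci hi
    induction i with
    | zero => ext q; simp
    | succ i ih =>
      refine MonoidHom.ext fun q => ?_
      rw [pow_succ α i, pow_succ M i]
      show Linear.qHom ((α ^ i) (α q)) = M ^ i * M * Linear.qHom q * (M ^ i * M)⁻¹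
      have h1 : Linear.qHom ((α ^ i) (α q)) = (M ^ i) * Linear.qHom (α q) * (M ^ i)⁻¹ := DFunLike.congr_fun ih (α q)
      have h2 : Linear.qHom (α q) = M * Linear.qHom q * M⁻¹ := by rw [← hF q]; exact hM q
      rw [h1, h2]; group
  let R := SemidirectProduct.lift (φ := conjQ) Linear.qHom m hcompat
  let L := SemidirectProduct.lift (φ := conjQ) ι C.subtype (fun c => MonoidHom.ext fun q => hconj c q)
  have hQ8 : Nat.card (QuaternionGroup 2) = 8 := by
    rw [Nat.card_eq_fintype_card, QuaternionGroup.card]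
  have hLinj : Function.Injective L := by
    rw [injective_iff_map_eq_one]
    rintro ⟨q, c⟩ h
    have h' : ι q * (c : G) = 1 := h
    have hd1 : orderOf (ι q) ∣ 8 := by
      rw [orderOf_injective ι hι, ← hQ8]; exact orderOf_dvd_natCard q
    have hd2 : orderOf (ι q) ∣ 3 ^ j := by
      rw [eq_inv_of_mul_eq_one_left h', orderOf_inv, Subgroup.orderOf_coe, ← hj, ← Nat.card_zpowers g]
      exact orderOf_dvd_natCard c
    have hq1 : ι q = 1 := orderOf_eq_one_iff.mp
      (Nat.eq_one_of_dvd_coprimes (Nat.Coprime.pow_right j (by norm_num)) hd1 hd2)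
    rw [hq1, one_mul] at h'
    ext
    · exact hι (hq1.trans (map_one ι).symm)
    · exact h'
  let eL := MonoidHom.ofInjective hLinj
  let f : L.range →* Matrix.SpecialLinearGroup (Fin 2) (ZMod 3) := R.comp eL.symm.toMonoidHom
  have hcardSL : Nat.card (Matrix.SpecialLinearGroup (Fin 2) (ZMod 3)) = 24 := by
    rw [Nat.card_eq_fintype_card]; decide +kernel
  have hsurjR : Function.Surjective R := by
    rw [← MonoidHom.range_eq_top]
    apply Subgroup.eq_top_of_card_eq
    rw [hcardSL]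
    refine Nat.dvd_antisymm (hcardSL ▸ Subgroup.card_subgroup_dvd_card _) ?_
    have h8 : 8 ∣ Nat.card R.range := by
      have := Subgroup.card_dvd_of_le (show Linear.qHom.range ≤ R.range by
        rintro _ ⟨q, rfl⟩; exact ⟨SemidirectProduct.inl q, SemidirectProduct.lift_inl _ _ _ q⟩)
      rwa [← Nat.card_congr (MonoidHom.ofInjective (f := Linear.qHom) Linear.qFun_injective).toEquiv, hQ8] at this
    have h3 : 3 ∣ Nat.card R.range := by
      have := Subgroup.card_dvd_of_le (show Subgroup.zpowers M ≤ R.range by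
        rw [Subgroup.zpowers_le]
        exact ⟨SemidirectProduct.inr ⟨g, Subgroup.mem_zpowers g⟩,
          (SemidirectProduct.lift_inr _ _ _ _).trans hmg⟩)
      rwa [Nat.card_zpowers, orderOf_eq_prime hM3 hM1] at this
    exact Nat.Coprime.mul_dvd_of_dvd_of_dvd (show Nat.Coprime 8 3 by norm_num) h8 h3
  have hsurj : Function.Surjective f := hsurjR.comp eL.symm.surjective
  have hk : (f.ker.map L.range.subtype).subgroupOf L.range = f.ker :=
    Subgroup.comap_map_eq_self_of_injective L.range.subtype_injective _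
  have hn : ((f.ker.map L.range.subtype).subgroupOf L.range).Normal := hk.symm ▸ f.normal_ker
  exact ⟨L.range, f.ker.map L.range.subtype, hn,
    ⟨(QuotientGroup.quotientMulEquivOfEq hk).trans (QuotientGroup.quotientKerEquivOfSurjective f hsurj)⟩⟩

end Cfsg.Agent.Transfer.QSec
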