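import Cfsg.Agent.FusionZJ.KInfBad

/-! Glauberman's bad element for `p`-subgroups between `O_p(G)` and a Sylow subgroup. -/

set_option autoImplicit false
set_option linter.style.haveILetI false
set_option linter.unusedSectionVars false

namespace Cfsg.Agent.Transfer.KInfBelow

open Subgroup Cfsg Cfsg.Agent Cfsg.Agent.FusionZJ
open scoped commutatorElement

universe u

variable {G : Type u} [Group G] [Finite G] {p : ℕ} [Fact p.Prime] {C : Subgroup G}

/-- Glauberman: if the K-infinity subgroup of some subgroup containing `O_p(G)` is not normal, there is a bad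
element in it. -/
theorem exists_bad_above (hC : CritData p C) (S : Subgroup G) (hOT : pCore p G ≤ S)
    (hK : ¬ (inducedFunctor kInfLower S).Normal ∨
      ¬ (inducedFunctor kInfUpper S).Normal) :
    ∃ g, BadElt p S C g := by
  haveI := hC.normal
  by_contra hno
  push Not at hno
  have hnC : ∀ X : Subgroup G, X ≤ normalizer (C : Set G) := fun X =>
    le_top.trans_eq (Subgroup.normalizer_eq_top C).symm
  have hlow : ∀ R : Subgroup G, R ≤ S → C ∈ kLowerStarFamily R := by
    intro R hR
    refine ⟨hC.classTwo, hnC R, fun A hA2 hAR hCA h0 h1 => ?_⟩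
    have hAC : ⁅C, A⁆ ≤ A ⊓ C :=
      le_inf (commutator_le_of_le_normalizer hCA)
        (commutator_comm C A ▸ commutator_le_of_le_normalizer (hnC A))
    by_cases hA : A ≤ pCore p G
    · exact (commutator_comm C A).le.trans ((commutator_mono hA le_rfl).trans hC.comm)
    obtain ⟨a, ha, haO⟩ := SetLike.not_le_iff_exists.mp hA
    refine absurd (hC.bad_of_steps (hR (hAR ha)) haO ?_ (le_bot_iff.mp ?_)) (hno a)
    · refine le_trans (commutator_mono (commutator_mono le_rfl (zpowers_le.mpr ha)) (zpowers_le.mpr ha)) ?_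
      refine le_inf ((commutator_mono (hAC.trans inf_le_right) le_rfl).trans
        (commutator_comm C A ▸ commutator_le_of_le_normalizer (hnC A))) ?_
      refine (commutator_mono (hAC.trans inf_le_left) le_rfl).trans ?_
      exact Subgroup.le_centralizer_iff.mp (commutator_eq_bot_iff_le_centralizer.mp h0)
    · exact (commutator_mono (commutator_mono le_rfl (zpowers_le.mpr ha)) (zpowers_le.mpr ha)).trans h1.le
  have hupp : ∀ E B : Subgroup G, C ≤ E → B ≤ S → B ∈ kUpperStarFamily E →
      B ≤ pCore p G := by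
    intro E B hCE hBS hB b hb
    by_contra hbO
    have hq : ⁅⁅C, zpowers b⁆, zpowers b⁆ = ⊥ := le_bot_iff.mp <| by
      refine le_trans (commutator_mono (commutator_mono le_rfl (zpowers_le.mpr hb)) (zpowers_le.mpr hb)) ?_
      refine (commutator_eq_bot_iff_le_centralizer.mpr ?_).le
      exact ((commutator_comm C B).le.trans ((commutator_mono le_rfl hCE).trans hB.2)).trans inf_le_right
    exact hno b (hC.bad_of_steps (hBS hb) hbO (hq.le.trans bot_le)
      (le_bot_iff.mp ((commutator_mono (commutator_mono inf_le_left le_rfl) le_rfl).trans hq.le)))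
  have hCS : C ≤ S := hC.le.trans hOT
  set C' := C.subgroupOf S with hC'
  have hCm : C'.map S.subtype = C := Subgroup.map_subgroupOf_eq_of_le hCS
  have hlow' : ∀ R : Subgroup ↥S, C' ∈ kLowerStarFamily R := fun R =>
    (CT.map_mem_lower_iff R C').mp (hCm.symm ▸ hlow _ (Subgroup.map_subtype_le R))
  have heven : ∀ n, C' ≤ kSeqOdd ↥S n →
      (kSeqEven ↥S n).map S.subtype ≤ pCore p G := fun n h => by
    rw [kSeqEven, Subgroup.map_le_iff_le_comap]
    refine sSup_le fun B hB => Subgroup.map_le_iff_le_comap.mp ?_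
    by_contra hBO
    obtain ⟨g, hg⟩ := hC.exists_bad_of_lower (hCm ▸ Subgroup.map_mono h) (Subgroup.map_subtype_le B)
      ((CT.map_mem_lower_iff _ B).mpr hB) hBO
    exact hno g hg
  have hodd : ∀ n, (kSeqOdd ↥S (n + 1)).map S.subtype ≤ pCore p G := fun n => by
    rw [CT.odd_succ, Subgroup.map_le_iff_le_comap]
    refine sSup_le fun B hB => Subgroup.map_le_iff_le_comap.mp ?_
    exact hupp _ _ (hCm ▸ Subgroup.map_mono (le_sSup (hlow' _))) (Subgroup.map_subtype_le B)
      ((CT.map_mem_upper_iff _ B).mpr hB)
  have hC0 : ∀ n, C' ≤ kSeqOdd ↥S n := by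
    intro n
    induction n with
    | zero => exact le_top
    | succ n ih =>
      rw [CT.odd_succ]
      refine le_sSup ((CT.map_mem_upper_iff _ C').mp (hCm.symm ▸ ⟨hC.classTwo, ?_⟩))
      exact (commutator_comm C _).le.trans ((commutator_mono (heven n ih) le_rfl).trans hC.comm)
  obtain ⟨e1, e2⟩ := CT.kInf_map (Q := (pCore p G).subgroupOf S)
    fun n => ⟨Subgroup.map_le_iff_le_comap.mp (heven n (hC0 n)), Subgroup.map_le_iff_le_comap.mp (hodd n)⟩
  set φ := Subgroup.subgroupOfEquivOfLe hOT with hφ
  have hcomp : S.subtype.comp ((pCore p G).subgroupOf S).subtype =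
      (pCore p G).subtype.comp φ.toMonoidHom := by
    ext x; rfl
  have key : ∀ W : ∀ (Q : Type u) [Group Q], Subgroup Q,
      ((W ↥((pCore p G).subgroupOf S)).map
        ((pCore p G).subgroupOf S).subtype = W ↥S) →
      (∀ (Q R : Type u) [Group Q] [Group R] (e : Q ≃* R), (W Q).map e.toMonoidHom = W R) →
      (inducedFunctor W S).Normal := by
    intro W hW hequiv
    haveI : (W ↥(pCore p G)).Characteristic :=
      Subgroup.characteristic_iff_map_eq.mpr fun ψ => hequiv _ _ ψ
    show ((W ↥S).map S.subtype).Normal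
    rw [← hW, Subgroup.map_map, hcomp, ← Subgroup.map_map, hequiv]
    exact Core.normal_map_subtype_of_characteristic _
  exact hK.elim (fun h => h (key kLo e1 fun Q R _ _ e => kInfLower_equiv e))
    (fun h => h (key kUp e2 fun Q R _ _ e => kInfUpper_equiv e))

end Cfsg.Agent.Transfer.KInfBelow
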