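import Mathlib
import Cfsg.Agent.FGS3.PGroupBasic

/-! Soft subgroups of p-groups: the normalizer tower of a self-centralizing abelian subgroup of
index p in its normalizer. -/

set_option autoImplicit false

namespace Cfsg.Agent.Transfer.Soft

open Subgroup

variable {P : Type*} [Group P]

/-- The upper central series of a subgroup, inside the whole group. -/
def zs (K : Subgroup P) (j : ℕ) : Subgroup P := (Subgroup.upperCentralSeries K j).map K.subtype

theorem zs_le (K : Subgroup P) (j : ℕ) : zs K j ≤ K := Subgroup.map_subtype_le _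

theorem zs_mono (K : Subgroup P) {i j : ℕ} (h : i ≤ j) : zs K i ≤ zs K j :=
  Subgroup.map_mono (Subgroup.upperCentralSeries_mono _ h)

theorem mem_zs {K : Subgroup P} {j : ℕ} {x : P} :
    x ∈ zs K j ↔ ∃ h : x ∈ K, (⟨x, h⟩ : K) ∈ Subgroup.upperCentralSeries K j :=
  ⟨fun ⟨y, hy, e⟩ => by subst e; exact ⟨y.2, hy⟩, fun ⟨h, hx⟩ => ⟨⟨x, h⟩, hx, rfl⟩⟩

theorem zs_zero (K : Subgroup P) : zs K 0 = ⊥ := by
  rw [zs, Subgroup.upperCentralSeries_zero, Subgroup.map_bot]

theorem mem_zs_succ {K : Subgroup P} {j : ℕ} {x : P} :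
    x ∈ zs K (j + 1) ↔ x ∈ K ∧ ∀ y ∈ K, x * y * x⁻¹ * y⁻¹ ∈ zs K j := by
  constructor
  · intro h
    obtain ⟨hx, hz⟩ := mem_zs.mp h
    exact ⟨hx, fun y hy => ⟨_, Subgroup.mem_upperCentralSeries_succ_iff.mp hz ⟨y, hy⟩, rfl⟩⟩
  · rintro ⟨hx, h⟩
    refine mem_zs.mpr ⟨hx, Subgroup.mem_upperCentralSeries_succ_iff.mpr fun y => ?_⟩
    obtain ⟨_, hmem⟩ := mem_zs.mp (h y y.2)
    exact hmem

theorem conj_zs {K : Subgroup P} {j : ℕ} {g x : P} (hg : g ∈ normalizer (K : Set P))
    (hx : x ∈ zs K j) : g * x * g⁻¹ ∈ zs K j := by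
  induction j generalizing x with
  | zero => rw [zs_zero, mem_bot] at hx ⊢; simp [hx]
  | succ j ih =>
    rw [mem_zs_succ] at hx ⊢
    refine ⟨(mem_normalizer_iff.mp hg x).mp hx.1, fun y hy => ?_⟩
    have h1 := ih (hx.2 _ ((mem_normalizer_iff''.mp hg y).mp hy))
    simpa [mul_assoc] using h1

theorem le_normalizer_zs [Finite P] (K : Subgroup P) (j : ℕ) :
    normalizer (K : Set P) ≤ normalizer ((zs K j : Subgroup P) : Set P) := fun g hg =>
  mem_normalizer_iff.mpr fun x => ⟨conj_zs hg, fun h => by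
    have := conj_zs (Subgroup.inv_mem _ hg) h
    simpa [mul_assoc] using this⟩

theorem eq_of_between [Finite P] {p : ℕ} [hp : Fact p.Prime] {A B C : Subgroup P} (hAB : A < B)
    (hBC : B ≤ C) (h : A.relIndex C = p) : B = C := by
  rw [← relIndex_mul_relIndex A B C hAB.le hBC] at h
  have h1 : A.relIndex B ≠ 1 := fun e => hAB.not_ge (relIndex_eq_one.mp e)
  refine le_antisymm hBC (relIndex_eq_one.mp ?_)
  rcases hp.out.eq_one_or_self_of_dvd _ ⟨_, h.symm⟩ with e | e
  · exact absurd e h1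
  · rw [e] at h
    exact Nat.eq_of_mul_eq_mul_left hp.out.pos (h.trans (mul_one p).symm)

/-- The normalizer tower. -/
def tower (E : Subgroup P) : ℕ → Subgroup P
  | 0 => E
  | i + 1 => normalizer ((tower E i : Subgroup P) : Set P)

theorem tower_le_succ (E : Subgroup P) (i : ℕ) : tower E i ≤ tower E (i + 1) :=
  Subgroup.le_normalizer

theorem tower_mono (E : Subgroup P) {i j : ℕ} (h : i ≤ j) : tower E i ≤ tower E j := by
  induction h with
  | refl => exact le_rfl
  | step _ ih => exact ih.trans (tower_le_succ E _)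

variable {p : ℕ} [hp : Fact p.Prime] [Finite P]
include hp

theorem tower_lt_succ {E : Subgroup P} {i : ℕ} (h : (tower E i).relIndex (tower E (i + 1)) = p) :
    tower E i < tower E (i + 1) :=
  lt_of_le_of_ne (tower_le_succ E i) fun e => hp.out.ne_one (by
    rw [← e, relIndex_self] at h; exact h.symm)

theorem tower_ne {E : Subgroup P} {i j : ℕ} (hji : j < i)
    (hA : ∀ j < i, (tower E j).relIndex (tower E (j + 1)) = p) : tower E j ≠ tower E i := fun e =>
  ((tower_lt_succ (hA j hji)).trans_le (tower_mono E hji)).ne e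

theorem classify (hP : IsPGroup p P) {E : Subgroup P} {i : ℕ}
    (hA : ∀ j < i, (tower E j).relIndex (tower E (j + 1)) = p) {K : Subgroup P} (hEK : E ≤ K)
    (hK : K ≤ tower E i) : ∃ j ≤ i, K = tower E j := by
  classical
  set j := Nat.findGreatest (fun j => tower E j ≤ K) i with hj
  have hji : j ≤ i := Nat.findGreatest_le i
  have hjK : tower E j ≤ K :=
    Nat.findGreatest_spec (P := fun j => tower E j ≤ K) (Nat.zero_le i) hEK
  refine ⟨j, hji, ?_⟩
  rcases hjK.eq_or_lt with e | hlt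
  · exact e.symm
  exfalso
  rcases hji.eq_or_lt with e | hji'
  · exact hlt.not_ge (e ▸ hK)
  have h1 := FGS3.lt_inf_normalizer (hP.to_subgroup K) hlt
  have h2 : K ⊓ normalizer ((tower E j : Subgroup P) : Set P) = tower E (j + 1) :=
    eq_of_between h1 inf_le_right (hA j hji')
  exact Nat.findGreatest_is_greatest (P := fun j => tower E j ≤ K) (Nat.lt_succ_self j) hji'
    (h2.ge.trans inf_le_left)

theorem index_mul_pow {E : Subgroup P} {i : ℕ}
    (hA : ∀ j < i, (tower E j).relIndex (tower E (j + 1)) = p) :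
    (tower E i).index * p ^ i = E.index := by
  induction i with
  | zero => simp [tower]
  | succ i ih =>
    have h := ih fun j hj => hA j (by omega)
    rw [← h, ← relIndex_mul_index (tower_le_succ E i), hA i (Nat.lt_succ_self i), pow_succ]
    ring

omit hp in
theorem mem_zs_of_gen {M E : Subgroup P} {g x : P} {j : ℕ}
    (hgen : E ⊔ E.map (MulAut.conj g).toMonoidHom = M) (hx : x ∈ M)
    (h1 : ∀ e ∈ E, x * e * x⁻¹ * e⁻¹ ∈ zs M j)
    (h2 : ∀ e ∈ E, x * (g * e * g⁻¹) * x⁻¹ * (g * e * g⁻¹)⁻¹ ∈ zs M j) : x ∈ zs M (j + 1) := by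
  have hn : M ≤ normalizer ((zs M j : Subgroup P) : Set P) :=
    Subgroup.le_normalizer.trans (le_normalizer_zs M j)
  let S : Subgroup P :=
    { carrier := {y | y ∈ M ∧ x * y * x⁻¹ * y⁻¹ ∈ zs M j}
      one_mem' := ⟨M.one_mem, by simp⟩
      mul_mem' := fun {a b} ha hb => ⟨M.mul_mem ha.1 hb.1, by
        have h3 := Subgroup.mul_mem _ ha.2 ((mem_normalizer_iff.mp (hn ha.1) _).mp hb.2)
        simpa [mul_assoc] using h3⟩
      inv_mem' := fun {a} ha => ⟨M.inv_mem ha.1, by
        have h3 := (mem_normalizer_iff''.mp (hn ha.1) _).mp (Subgroup.inv_mem _ ha.2)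
        simpa [mul_assoc] using h3⟩ }
  have hle : M ≤ S := by
    refine hgen ▸ sup_le (fun e he => ⟨?_, h1 e he⟩) ?_
    · exact hgen ▸ mem_sup_left he
    · rintro _ ⟨e, he, rfl⟩
      exact ⟨hgen ▸ mem_sup_right (mem_map_of_mem _ he), h2 e he⟩
  exact mem_zs_succ.mpr ⟨hx, fun y hy => (hle hy).2⟩

variable (E : Subgroup P) (hab : ∀ a ∈ E, ∀ b ∈ E, a * b = b * a)

omit hp in
include hab in
theorem comm_mem_of_mem_sup {M : Subgroup P} (hEM : E ≤ M) {j : ℕ} {x e : P}
    (hx : x ∈ zs M (j + 1) ⊔ E) (he : e ∈ E) : x * e * x⁻¹ * e⁻¹ ∈ zs M j := by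
  have hEn : E ≤ normalizer ((zs M (j + 1) : Subgroup P) : Set P) :=
    hEM.trans (Subgroup.le_normalizer.trans (le_normalizer_zs M _))
  rw [← SetLike.mem_coe, Subgroup.coe_mul_of_right_le_normalizer_left _ _ hEn] at hx
  obtain ⟨z, hz, a, ha, rfl⟩ := Set.mem_mul.mp hx
  have := (mem_zs_succ.mp hz).2 e (hEM he)
  have hae : a * e * a⁻¹ = e := by rw [hab a ha e he, mul_inv_cancel_right]
  rw [show z * a * e * (z * a)⁻¹ * e⁻¹ = z * (a * e * a⁻¹) * z⁻¹ * e⁻¹ by group, hae]
  exact this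

include hab in
/-- The structure of one proper member of the tower. -/
theorem step (hP : IsPGroup p P) (hC : Subgroup.centralizer (E : Set P) ≤ E) {k : ℕ}
    (hA : ∀ j < k + 1, (tower E j).relIndex (tower E (j + 1)) = p)
    (hne : tower E (k + 1) ≠ ⊤) :
    (tower E (k + 1)).relIndex (tower E (k + 2)) = p ∧
      zs (tower E (k + 1)) (k + 2) = tower E (k + 1) ∧
      zs (tower E (k + 1)) (k + 1) ≠ tower E (k + 1) := by
  set M := tower E (k + 1) with hM
  set Q := tower E (k + 2) with hQ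
  set M' := tower E k with hM'
  have hEM : E ≤ M := tower_mono E (Nat.zero_le _)
  have hlt : M < Q := by
    have := FGS3.lt_inf_normalizer (hP.to_subgroup ⊤) (lt_top_iff_ne_top.mpr hne)
    rwa [top_inf_eq] at this
  have hQM : Q ≤ normalizer (M : Set P) := le_rfl
  have hM'M : M' < M := tower_lt_succ (hA k (Nat.lt_succ_self k))
  have hM'i : M'.relIndex M = p := hA k (Nat.lt_succ_self k)
  have hMM' : M ≤ normalizer (M' : Set P) := le_rfl
  -- `M = ⟨E, E^g⟩` for `g ∈ Q ∖ M`
  have hgen : ∀ g ∈ Q, g ∉ M → E ⊔ E.map (MulAut.conj g).toMonoidHom = M := by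
    intro g hgQ hgM
    have hle : E ⊔ E.map (MulAut.conj g).toMonoidHom ≤ M := by
      refine sup_le hEM ?_
      rintro _ ⟨e, he, rfl⟩
      exact (mem_normalizer_iff.mp (hQM hgQ) e).mp (hEM he)
    obtain ⟨j, hj, hje⟩ := classify hP hA le_sup_left hle
    rcases hj.eq_or_lt with e | hlt'
    · rw [hje, e]
    exfalso
    have hsub : E.map (MulAut.conj g).toMonoidHom ≤ M' :=
      le_sup_right.trans (hje.le.trans (tower_mono E (by omega)))
    set R := M'.map (MulAut.conj g⁻¹).toMonoidHom with hR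
    have hRM : R ≤ M := by
      rintro _ ⟨y, hy, rfl⟩
      exact (mem_normalizer_iff.mp (hQM (Q.inv_mem hgQ)) y).mp (hM'M.le hy)
    have hER : E ≤ R := fun e he =>
      ⟨g * e * g⁻¹, hsub ⟨e, he, rfl⟩, by simp [mul_assoc]⟩
    obtain ⟨j', hj', hje'⟩ := classify hP hA hER hRM
    have hcard : Nat.card R = Nat.card M' :=
      Subgroup.card_map_of_injective (MulAut.conj g⁻¹).injective
    have hRM' : R = M' := by
      rcases hj'.eq_or_lt with e | hlt''
      · exfalso
        rw [hje', e] at hcard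
        exact hM'M.ne (Subgroup.eq_of_le_of_card_ge hM'M.le hcard.le)
      · exact Subgroup.eq_of_le_of_card_ge (hje'.le.trans (tower_mono E (by omega))) hcard.ge
    have : g⁻¹ ∈ M := Subgroup.mem_normalizer_iff_map_conj_eq.mpr hRM'
    exact hgM (by simpa using M.inv_mem this)
  obtain ⟨g₀, hg₀, hg₀M⟩ := SetLike.exists_of_lt hlt
  -- the intersection lemma
  have hint : ∀ g ∈ Q, g ∉ M → ∀ j, ∀ x ∈ M, x ∈ zs M (j + 1) ⊔ E →
      g⁻¹ * x * g ∈ zs M (j + 1) ⊔ E → x ∈ zs M (j + 1) := by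
    intro g hgQ hgM j x hxM h1 h2
    refine mem_zs_of_gen (hgen g hgQ hgM) hxM (fun e he => comm_mem_of_mem_sup E hab hEM h1 he) ?_
    intro e he
    have h3 := conj_zs (hQM hgQ) (comm_mem_of_mem_sup E hab hEM h2 he)
    simpa [mul_assoc] using h3
  -- the tower is `E ⊔ Z_j`
  have hZ : ∀ j ≤ k + 1, zs M (j + 1) ⊔ E = tower E j := by
    intro j hj
    induction j with
    | zero =>
      refine le_antisymm (sup_le (fun z hz => hC ?_) le_rfl) le_sup_right
      rw [Subgroup.mem_centralizer_iff]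
      intro e he
      have := (mem_zs_succ.mp hz).2 e (hEM he)
      rw [zs_zero, mem_bot, mul_inv_eq_one, mul_inv_eq_iff_eq_mul] at this
      exact this.symm
    | succ j ih =>
      have hjk : j < k + 1 := hj
      have h1 := ih hjk.le
      have hle : zs M (j + 2) ⊔ E ≤ tower E (j + 1) := by
        refine sup_le (fun z hz => ?_) (tower_mono E (Nat.zero_le _))
        rw [mem_zs_succ] at hz
        have hTM : tower E j ≤ M := tower_mono E hjk.le
        have key : ∀ w ∈ zs M (j + 2), ∀ y ∈ tower E j, w * y * w⁻¹ ∈ tower E j := fun w hw y hy => by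
          have h2 : w * y * w⁻¹ * y⁻¹ ∈ tower E j :=
            h1 ▸ mem_sup_left ((mem_zs_succ.mp hw).2 y (hTM hy))
          simpa using (tower E j).mul_mem h2 hy
        refine mem_normalizer_iff.mpr fun y => ⟨key z (mem_zs_succ.mpr hz) y, fun hy => ?_⟩
        have := key z⁻¹ (Subgroup.inv_mem _ (mem_zs_succ.mpr hz)) _ hy
        simpa [mul_assoc] using this
      have hge : tower E j ≤ zs M (j + 2) ⊔ E :=
        h1 ▸ sup_le_sup_right (zs_mono M (Nat.le_succ _)) E
      rcases hge.eq_or_lt with e | hlt'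
      swap
      · exact eq_of_between hlt' hle (hA j hjk)
      exfalso
      have hst : ∀ x ∈ zs M (j + 2), x ∈ zs M (j + 1) := fun x hx =>
        hint g₀ hg₀ hg₀M j x (zs_le M _ hx) (h1 ▸ (e ▸ mem_sup_left hx : x ∈ tower E j))
          (h1 ▸ (e ▸ mem_sup_left (by
            have := conj_zs (hQM (Q.inv_mem hg₀)) hx
            simpa using this) : g₀⁻¹ * x * g₀ ∈ tower E j))
      have hst' : ∀ m, zs M m ≤ zs M (j + 1) := by
        intro m
        induction m with
        | zero => rw [zs_zero]; exact bot_le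
        | succ m ihm =>
          intro x hx
          obtain ⟨hxM, hx2⟩ := mem_zs_succ.mp hx
          exact hst x (mem_zs_succ.mpr ⟨hxM, fun y hy => ihm (hx2 y hy)⟩)
      haveI := (hP.to_subgroup M).isNilpotent
      have hMj : M ≤ tower E j := by
        intro x hx
        refine h1 ▸ mem_sup_left (hst' (Group.nilpotencyClass M) (mem_zs.mpr ⟨hx, ?_⟩))
        rw [Subgroup.upperCentralSeries_nilpotencyClass]
        exact Subgroup.mem_top _
      exact tower_ne hjk hA (le_antisymm (tower_mono E hjk.le) hMj)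
  set L := zs M (k + 1) with hL
  have hLE : L ⊔ E = M' := hZ k (Nat.le_succ k)
  have hLM' : L ≤ M' := hLE ▸ le_sup_left
  have hLne : L ≠ M := fun e => hM'M.not_ge (e ▸ hLM')
  have htop : zs M (k + 2) = M := by
    refine le_antisymm (zs_le M _) fun x hx => ?_
    have hxT : x ∈ zs M (k + 1 + 1) ⊔ E := (hZ (k + 1) le_rfl).symm ▸ hx
    have hxg : g₀⁻¹ * x * g₀ ∈ M := (mem_normalizer_iff''.mp (hQM hg₀) x).mp hx
    exact hint g₀ hg₀ hg₀M (k + 1) x hx hxT ((hZ (k + 1) le_rfl).symm ▸ hxg)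
  refine ⟨?_, htop, hLne⟩
  -- counting
  have hinter : ∀ g ∈ Q, g ∉ M → ∀ x ∈ M', g⁻¹ * x * g ∈ M' → x ∈ L := fun g hgQ hgM x h1 h2 =>
    hint g hgQ hgM k x (hM'M.le h1) (hLE.symm ▸ h1) (hLE.symm ▸ h2)
  haveI : ∀ A B : Subgroup P, A.IsFiniteRelIndex B := fun A B =>
    ⟨Subgroup.index_ne_zero_of_finite⟩
  set a := L.relIndex M' with ha
  have ha2 : 2 ≤ a := by
    have h0 : a ≠ 0 := Subgroup.relIndex_ne_zero
    have h1 : a ≠ 1 := fun e => by
      have hLM : L = M' := le_antisymm hLM' (relIndex_eq_one.mp e)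
      have hn : g₀ ∈ normalizer (M' : Set P) := hLM ▸ le_normalizer_zs M _ (hQM hg₀)
      exact hg₀M hn
    omega
  have hap : a ≤ p := by
    set R := M'.map (MulAut.conj g₀).toMonoidHom with hR
    have hRM : R.relIndex M = p := by
      have hMg : M.map (MulAut.conj g₀).toMonoidHom = M :=
        Subgroup.mem_normalizer_iff_map_conj_eq.mp (hQM hg₀)
      have := Subgroup.relIndex_map_map_of_injective M' M (f := (MulAut.conj g₀).toMonoidHom)
        (MulAut.conj g₀).injective
      rwa [hMg, hM'i] at this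
    have hle : R ⊓ M' ≤ L := by
      rintro x ⟨⟨y, hy, rfl⟩, hx⟩
      exact hinter g₀ hg₀ hg₀M _ hx (by simpa [mul_assoc] using hy)
    calc a ≤ (R ⊓ M').relIndex M' := Subgroup.relIndex_le_of_le_left hle Subgroup.relIndex_ne_zero
      _ = R.relIndex M' := Subgroup.inf_relIndex_right R M'
      _ ≤ R.relIndex M := Subgroup.relIndex_le_of_le_right hM'M.le Subgroup.relIndex_ne_zero
      _ = p := hRM
  have hcM : Nat.card M = Nat.card L * (a * p) := by
    rw [← hM'i, relIndex_mul_relIndex L M' M hLM' hM'M.le]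
    exact (Subgroup.card_mul_index (L.subgroupOf M)).symm.trans (congrArg (· * _)
      (Nat.card_congr (Subgroup.subgroupOfEquivOfLe (hLM'.trans hM'M.le)).toEquiv))
  have hcM' : Nat.card M' = Nat.card L * a :=
    (Subgroup.card_mul_index (L.subgroupOf M')).symm.trans (congrArg (· * _)
      (Nat.card_congr (Subgroup.subgroupOfEquivOfLe hLM').toEquiv))
  have hcount : M.relIndex Q * (Nat.card M' - Nat.card L) ≤ Nat.card M - Nat.card L := by
    have e1 : ∀ S : Subgroup P, L ≤ S →
        Nat.card {x : P // x ∈ S ∧ x ∉ L} = Nat.card S - Nat.card L := fun S hS =>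
      (Set.ncard_sdiff (s := (L : Set P)) (t := (S : Set P)) hS (Set.toFinite _))
    rw [← e1 M' hLM', ← e1 M (hLM'.trans hM'M.le), Subgroup.relIndex, Subgroup.index_eq_card,
      ← Nat.card_prod]
    have hconjL : ∀ q ∈ Q, ∀ y, q * y * q⁻¹ ∈ L → y ∈ L := fun q hq y hy =>
      (mem_normalizer_iff.mp (le_normalizer_zs M _ (hQM hq)) y).mpr hy
    refine Nat.card_le_card_of_injective (fun z => ⟨(z.1.out : P) * z.2.1 * (z.1.out : P)⁻¹,
      (mem_normalizer_iff.mp (hQM z.1.out.2) _).mp (hM'M.le z.2.2.1),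
      fun h => z.2.2.2 (hconjL _ z.1.out.2 _ h)⟩) ?_
    rintro ⟨q, x, hx⟩ ⟨q', x', hx'⟩ he
    have he' : (q.out : P) * x * (q.out : P)⁻¹ = (q'.out : P) * x' * (q'.out : P)⁻¹ :=
      congrArg Subtype.val he
    have hqq : q = q' := by
      by_contra hne'
      have hnot : ((q.out : P)⁻¹ * q'.out) ∉ M := fun hm => hne' (by
        rw [← q.out_eq, ← q'.out_eq]
        exact QuotientGroup.eq.mpr hm)
      refine hx.2 (hinter _ (Q.mul_mem (Q.inv_mem q.out.2) q'.out.2) hnot x hx.1 ?_)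
      have : ((q.out : P)⁻¹ * q'.out)⁻¹ * x * ((q.out : P)⁻¹ * q'.out) = x' := by
        calc _ = (q'.out : P)⁻¹ * ((q.out : P) * x * (q.out : P)⁻¹) * q'.out := by group
          _ = x' := by rw [he']; group
      rw [this]; exact hx'.1
    subst hqq
    have : x = x' := by simpa using he'
    subst this
    rfl
  obtain ⟨m, hm⟩ := (hP.to_subgroup Q).index (M.subgroupOf Q)
  have hm' : M.relIndex Q = p ^ m := hm
  have hn1 : M.relIndex Q ≠ 1 := fun e => hlt.not_ge (relIndex_eq_one.mp e)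
  rcases m with _ | _ | m
  · simp [hm'] at hn1
  · simpa using hm'
  exfalso
  have hp2 : p ^ 2 ≤ M.relIndex Q := hm' ▸ Nat.pow_le_pow_right hp.out.pos (by omega)
  have hc := (Nat.mul_le_mul_right _ hp2).trans hcount
  rw [hcM, hcM', ← Nat.mul_sub_one, ← Nat.mul_sub_one, mul_left_comm] at hc
  have hc' : p ^ 2 * (a - 1) ≤ a * p - 1 := Nat.le_of_mul_le_mul_left hc Nat.card_pos
  obtain ⟨b, hb⟩ : ∃ b, a = b + 2 := ⟨a - 2, by omega⟩
  rw [hb] at hc'
  have := hp.out.two_le
  have hpos : 1 ≤ (b + 2) * p := by nlinarith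
  have h5 : p ^ 2 * (b + 1) + 1 ≤ (b + 2) * p := by
    have : b + 2 - 1 = b + 1 := by omega
    rw [this] at hc'; omega
  nlinarith [Nat.mul_le_mul_left p this, Nat.mul_le_mul_left (p * b) this]

include hab in
theorem relIndex_tower (hP : IsPGroup p P) (hC : Subgroup.centralizer (E : Set P) ≤ E)
    (hN : E.relIndex (normalizer (E : Set P)) = p) (i : ℕ) (hne : tower E i ≠ ⊤) :
    (tower E i).relIndex (tower E (i + 1)) = p := by
  induction i using Nat.strong_induction_on with
  | _ i ih =>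
    rcases i with _ | k
    · exact hN
    · exact (step E hab hP hC (fun j hj => ih j hj fun e => hne (top_le_iff.mp
        (e.symm.le.trans (tower_mono E hj.le)))) hne).1

end Cfsg.Agent.Transfer.Soft
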